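import Cfsg.Agent.Lib.H34.Suz1.PData

set_option autoImplicit false
set_option maxRecDepth 100000
set_option Elab.async false

noncomputable section

namespace H34.Suz1

open H34.T2

theorem v0 : loop2 (fun i => Nat.beq (Z i) 0) 3 16 0 = true := by decide +kernel
theorem v1 : loop2 (fun i => Nat.beq (Z i) 0) 3 16 48 = true := by decide +kernel
theorem v2 : loop2 (fun i => Nat.beq (Z i) 0) 3 16 96 = true := by decide +kernel
theorem v3 : loop2 (fun i => Nat.beq (Z i) 0) 3 16 144 = true := by decide +kernel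
theorem v4 : loop2 (fun i => Nat.beq (Z i) 0) 3 16 192 = true := by decide +kernel
theorem v5 : loop2 (fun i => Nat.beq (Z i) 0) 3 16 240 = true := by decide +kernel
theorem v6 : loop2 (fun i => Nat.beq (Z i) 0) 3 16 288 = true := by decide +kernel
theorem v7 : loop2 (fun i => Nat.beq (Z i) 0) 3 16 336 = true := by decide +kernel
theorem v8 : loop2 (fun i => Nat.beq (Z i) 0) 3 16 384 = true := by decide +kernel
theorem v9 : loop2 (fun i => Nat.beq (Z i) 0) 3 16 432 = true := by decide +kernel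
theorem v10 : loop2 (fun i => Nat.beq (Z i) 0) 3 16 480 = true := by decide +kernel
theorem v11 : loop2 (fun i => Nat.beq (Z i) 0) 3 16 528 = true := by decide +kernel
theorem v12 : loop2 (fun i => Nat.beq (Z i) 0) 3 16 576 = true := by decide +kernel
theorem v13 : loop2 (fun i => Nat.beq (Z i) 0) 3 16 624 = true := by decide +kernel
theorem v14 : loop2 (fun i => Nat.beq (Z i) 0) 3 16 672 = true := by decide +kernel
theorem v15 : loop2 (fun i => Nat.beq (Z i) 0) 3 16 720 = true := by decide +kernel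
theorem v16 : loop2 (fun i => Nat.beq (Z i) 0) 3 16 768 = true := by decide +kernel
theorem v17 : loop2 (fun i => Nat.beq (Z i) 0) 3 16 816 = true := by decide +kernel
theorem v18 : loop2 (fun i => Nat.beq (Z i) 0) 3 16 864 = true := by decide +kernel
theorem v19 : loop2 (fun i => Nat.beq (Z i) 0) 3 16 912 = true := by decide +kernel
theorem v20 : loop2 (fun i => Nat.beq (Z i) 0) 3 16 960 = true := by decide +kernel
theorem v21 : loop2 (fun i => Nat.beq (Z i) 0) 3 16 1008 = true := by decide +kernel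
theorem v22 : loop2 (fun i => Nat.beq (Z i) 0) 3 16 1056 = true := by decide +kernel
theorem v23 : loop2 (fun i => Nat.beq (Z i) 0) 3 16 1104 = true := by decide +kernel
theorem v24 : loop2 (fun i => Nat.beq (Z i) 0) 3 16 1152 = true := by decide +kernel
theorem v25 : loop2 (fun i => Nat.beq (Z i) 0) 3 16 1200 = true := by decide +kernel
theorem v26 : loop2 (fun i => Nat.beq (Z i) 0) 3 16 1248 = true := by decide +kernel
theorem v27 : loop2 (fun i => Nat.beq (Z i) 0) 3 16 1296 = true := by decide +kernel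
theorem v28 : loop2 (fun i => Nat.beq (Z i) 0) 3 16 1344 = true := by decide +kernel
theorem v29 : loop2 (fun i => Nat.beq (Z i) 0) 3 16 1392 = true := by decide +kernel
theorem v30 : loop2 (fun i => Nat.beq (Z i) 0) 3 16 1440 = true := by decide +kernel
theorem v31 : loop2 (fun i => Nat.beq (Z i) 0) 3 16 1488 = true := by decide +kernel
theorem v32 : loop2 (fun i => Nat.beq (Z i) 0) 3 16 1536 = true := by decide +kernel
theorem v33 : loop2 (fun i => Nat.beq (Z i) 0) 3 16 1584 = true := by decide +kernel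
theorem v34 : loop2 (fun i => Nat.beq (Z i) 0) 3 16 1632 = true := by decide +kernel
theorem v35 : loop2 (fun i => Nat.beq (Z i) 0) 3 16 1680 = true := by decide +kernel
theorem v36 : loop2 (fun i => Nat.beq (Z i) 0) 3 16 1728 = true := by decide +kernel
theorem v37 : loop2 (fun i => Nat.beq (Z i) 0) 3 16 1776 = true := by decide +kernel
theorem v38 : loop2 (fun i => Nat.beq (Z i) 0) 3 16 1824 = true := by decide +kernel
theorem v39 : loop2 (fun i => Nat.beq (Z i) 0) 3 16 1872 = true := by decide +kernel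
theorem v40 : loop2 (fun i => Nat.beq (Z i) 0) 3 16 1920 = true := by decide +kernel
theorem v41 : loop2 (fun i => Nat.beq (Z i) 0) 3 16 1968 = true := by decide +kernel
theorem v42 : loop2 (fun i => Nat.beq (Z i) 0) 3 16 2016 = true := by decide +kernel
theorem v43 : loop2 (fun i => Nat.beq (Z i) 0) 3 16 2064 = true := by decide +kernel
theorem v44 : loop2 (fun i => Nat.beq (Z i) 0) 3 16 2112 = true := by decide +kernel
theorem v45 : loop2 (fun i => Nat.beq (Z i) 0) 3 16 2160 = true := by decide +kernel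
theorem v46 : loop2 (fun i => Nat.beq (Z i) 0) 3 16 2208 = true := by decide +kernel
theorem v47 : loop2 (fun i => Nat.beq (Z i) 0) 3 16 2256 = true := by decide +kernel
theorem v48 : loop2 (fun i => Nat.beq (Z i) 0) 3 16 2304 = true := by decide +kernel
theorem v49 : loop2 (fun i => Nat.beq (Z i) 0) 3 16 2352 = true := by decide +kernel
theorem v50 : loop2 (fun i => Nat.beq (Z i) 0) 3 16 2400 = true := by decide +kernel
theorem v51 : loop2 (fun i => Nat.beq (Z i) 0) 3 16 2448 = true := by decide +kernel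
theorem v52 : loop2 (fun i => Nat.beq (Z i) 0) 3 16 2496 = true := by decide +kernel
theorem v53 : loop2 (fun i => Nat.beq (Z i) 0) 3 16 2544 = true := by decide +kernel
theorem v54 : loop2 (fun i => Nat.beq (Z i) 0) 3 16 2592 = true := by decide +kernel
theorem v55 : loop2 (fun i => Nat.beq (Z i) 0) 3 16 2640 = true := by decide +kernel
theorem v56 : loop2 (fun i => Nat.beq (Z i) 0) 3 16 2688 = true := by decide +kernel
theorem v57 : loop2 (fun i => Nat.beq (Z i) 0) 3 16 2736 = true := by decide +kernel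
theorem v58 : loop2 (fun i => Nat.beq (Z i) 0) 3 16 2784 = true := by decide +kernel
theorem v59 : loop2 (fun i => Nat.beq (Z i) 0) 3 16 2832 = true := by decide +kernel
theorem v60 : loop2 (fun i => Nat.beq (Z i) 0) 3 16 2880 = true := by decide +kernel
theorem v61 : loop2 (fun i => Nat.beq (Z i) 0) 3 16 2928 = true := by decide +kernel
theorem v62 : loop2 (fun i => Nat.beq (Z i) 0) 3 16 2976 = true := by decide +kernel
theorem v63 : loop2 (fun i => Nat.beq (Z i) 0) 3 16 3024 = true := by decide +kernel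
theorem v64 : loop2 (fun i => Nat.beq (Z i) 0) 3 16 3072 = true := by decide +kernel
theorem v65 : loop2 (fun i => Nat.beq (Z i) 0) 3 16 3120 = true := by decide +kernel
theorem v66 : loop2 (fun i => Nat.beq (Z i) 0) 3 16 3168 = true := by decide +kernel
theorem v67 : loop2 (fun i => Nat.beq (Z i) 0) 3 16 3216 = true := by decide +kernel
theorem v68 : loop2 (fun i => Nat.beq (Z i) 0) 3 16 3264 = true := by decide +kernel
theorem v69 : loop2 (fun i => Nat.beq (Z i) 0) 3 16 3312 = true := by decide +kernel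
theorem v70 : loop2 (fun i => Nat.beq (Z i) 0) 3 16 3360 = true := by decide +kernel
theorem v71 : loop2 (fun i => Nat.beq (Z i) 0) 3 16 3408 = true := by decide +kernel
theorem v72 : loop2 (fun i => Nat.beq (Z i) 0) 3 16 3456 = true := by decide +kernel
theorem v73 : loop2 (fun i => Nat.beq (Z i) 0) 3 16 3504 = true := by decide +kernel
theorem v74 : loop2 (fun i => Nat.beq (Z i) 0) 3 16 3552 = true := by decide +kernel
theorem v75 : loop2 (fun i => Nat.beq (Z i) 0) 3 16 3600 = true := by decide +kernel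
theorem v76 : loop2 (fun i => Nat.beq (Z i) 0) 3 16 3648 = true := by decide +kernel
theorem v77 : loop2 (fun i => Nat.beq (Z i) 0) 3 16 3696 = true := by decide +kernel
theorem v78 : loop2 (fun i => Nat.beq (Z i) 0) 3 16 3744 = true := by decide +kernel
theorem v79 : loop2 (fun i => Nat.beq (Z i) 0) 3 16 3792 = true := by decide +kernel
theorem v80 : loop2 (fun i => Nat.beq (Z i) 0) 3 16 3840 = true := by decide +kernel
theorem v81 : loop2 (fun i => Nat.beq (Z i) 0) 3 16 3888 = true := by decide +kernel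
theorem v82 : loop2 (fun i => Nat.beq (Z i) 0) 3 16 3936 = true := by decide +kernel
theorem v83 : loop2 (fun i => Nat.beq (Z i) 0) 3 16 3984 = true := by decide +kernel
theorem v84 : loop2 (fun i => Nat.beq (Z i) 0) 3 16 4032 = true := by decide +kernel
theorem v85 : loop2 (fun i => Nat.beq (Z i) 0) 3 16 4080 = true := by decide +kernel
theorem v86 : loop2 (fun i => Nat.beq (Z i) 0) 3 16 4128 = true := by decide +kernel
theorem v87 : loop2 (fun i => Nat.beq (Z i) 0) 3 16 4176 = true := by decide +kernel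
theorem v88 : loop2 (fun i => Nat.beq (Z i) 0) 3 16 4224 = true := by decide +kernel
theorem v89 : loop2 (fun i => Nat.beq (Z i) 0) 3 16 4272 = true := by decide +kernel
theorem v90 : loop2 (fun i => Nat.beq (Z i) 0) 3 16 4320 = true := by decide +kernel
theorem v91 : loop2 (fun i => Nat.beq (Z i) 0) 3 16 4368 = true := by decide +kernel
theorem v92 : loop2 (fun i => Nat.beq (Z i) 0) 3 16 4416 = true := by decide +kernel
theorem v93 : loop2 (fun i => Nat.beq (Z i) 0) 3 16 4464 = true := by decide +kernel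
theorem v94 : loop2 (fun i => Nat.beq (Z i) 0) 3 16 4512 = true := by decide +kernel
theorem v95 : loop2 (fun i => Nat.beq (Z i) 0) 3 16 4560 = true := by decide +kernel
theorem v96 : loop2 (fun i => Nat.beq (Z i) 0) 3 16 4608 = true := by decide +kernel
theorem v97 : loop2 (fun i => Nat.beq (Z i) 0) 3 16 4656 = true := by decide +kernel
theorem v98 : loop2 (fun i => Nat.beq (Z i) 0) 3 16 4704 = true := by decide +kernel
theorem v99 : loop2 (fun i => Nat.beq (Z i) 0) 3 16 4752 = true := by decide +kernel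
theorem v100 : loop2 (fun i => Nat.beq (Z i) 0) 3 16 4800 = true := by decide +kernel
theorem v101 : loop2 (fun i => Nat.beq (Z i) 0) 3 16 4848 = true := by decide +kernel
theorem v102 : loop2 (fun i => Nat.beq (Z i) 0) 3 16 4896 = true := by decide +kernel
theorem v103 : loop2 (fun i => Nat.beq (Z i) 0) 3 16 4944 = true := by decide +kernel
theorem v104 : loop2 (fun i => Nat.beq (Z i) 0) 3 16 4992 = true := by decide +kernel
theorem v105 : loop2 (fun i => Nat.beq (Z i) 0) 3 16 5040 = true := by decide +kernel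
theorem v106 : loop2 (fun i => Nat.beq (Z i) 0) 3 16 5088 = true := by decide +kernel
theorem v107 : loop2 (fun i => Nat.beq (Z i) 0) 3 16 5136 = true := by decide +kernel
theorem v108 : loop2 (fun i => Nat.beq (Z i) 0) 3 16 5184 = true := by decide +kernel
theorem v109 : loop2 (fun i => Nat.beq (Z i) 0) 3 16 5232 = true := by decide +kernel
theorem v110 : loop2 (fun i => Nat.beq (Z i) 0) 3 16 5280 = true := by decide +kernel
theorem v111 : loop2 (fun i => Nat.beq (Z i) 0) 3 16 5328 = true := by decide +kernel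
theorem v112 : loop2 (fun i => Nat.beq (Z i) 0) 3 16 5376 = true := by decide +kernel
theorem v113 : loop2 (fun i => Nat.beq (Z i) 0) 3 16 5424 = true := by decide +kernel
theorem v114 : loop2 (fun i => Nat.beq (Z i) 0) 3 16 5472 = true := by decide +kernel
theorem v115 : loop2 (fun i => Nat.beq (Z i) 0) 3 16 5520 = true := by decide +kernel
theorem v116 : loop2 (fun i => Nat.beq (Z i) 0) 3 16 5568 = true := by decide +kernel
theorem v117 : loop2 (fun i => Nat.beq (Z i) 0) 3 16 5616 = true := by decide +kernel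
theorem v118 : loop2 (fun i => Nat.beq (Z i) 0) 3 16 5664 = true := by decide +kernel
theorem v119 : loop2 (fun i => Nat.beq (Z i) 0) 3 16 5712 = true := by decide +kernel
theorem v120 : loop2 (fun i => Nat.beq (Z i) 0) 3 16 5760 = true := by decide +kernel
theorem v121 : loop2 (fun i => Nat.beq (Z i) 0) 3 16 5808 = true := by decide +kernel
theorem v122 : loop2 (fun i => Nat.beq (Z i) 0) 3 16 5856 = true := by decide +kernel
theorem v123 : loop2 (fun i => Nat.beq (Z i) 0) 3 16 5904 = true := by decide +kernel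
theorem v124 : loop2 (fun i => Nat.beq (Z i) 0) 3 16 5952 = true := by decide +kernel
theorem v125 : loop2 (fun i => Nat.beq (Z i) 0) 3 16 6000 = true := by decide +kernel
theorem v126 : loop2 (fun i => Nat.beq (Z i) 0) 3 16 6048 = true := by decide +kernel
theorem v127 : loop2 (fun i => Nat.beq (Z i) 0) 3 16 6096 = true := by decide +kernel
theorem v128 : loop2 (fun i => Nat.beq (Z i) 0) 3 16 6144 = true := by decide +kernel
theorem v129 : loop2 (fun i => Nat.beq (Z i) 0) 3 16 6192 = true := by decide +kernel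
theorem v130 : loop2 (fun i => Nat.beq (Z i) 0) 3 16 6240 = true := by decide +kernel
theorem v131 : loop2 (fun i => Nat.beq (Z i) 0) 3 16 6288 = true := by decide +kernel
theorem v132 : loop2 (fun i => Nat.beq (Z i) 0) 3 16 6336 = true := by decide +kernel
theorem v133 : loop2 (fun i => Nat.beq (Z i) 0) 3 16 6384 = true := by decide +kernel
theorem v134 : loop2 (fun i => Nat.beq (Z i) 0) 3 16 6432 = true := by decide +kernel
theorem v135 : loop2 (fun i => Nat.beq (Z i) 0) 3 16 6480 = true := by decide +kernel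
theorem v136 : loop2 (fun i => Nat.beq (Z i) 0) 3 16 6528 = true := by decide +kernel
theorem v137 : loop2 (fun i => Nat.beq (Z i) 0) 3 16 6576 = true := by decide +kernel
theorem v138 : loop2 (fun i => Nat.beq (Z i) 0) 3 16 6624 = true := by decide +kernel
theorem v139 : loop2 (fun i => Nat.beq (Z i) 0) 3 16 6672 = true := by decide +kernel
theorem v140 : loop2 (fun i => Nat.beq (Z i) 0) 3 16 6720 = true := by decide +kernel
theorem v141 : loop2 (fun i => Nat.beq (Z i) 0) 3 16 6768 = true := by decide +kernel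
theorem v142 : loop2 (fun i => Nat.beq (Z i) 0) 3 16 6816 = true := by decide +kernel
theorem v143 : loop2 (fun i => Nat.beq (Z i) 0) 3 16 6864 = true := by decide +kernel
theorem v144 : loop2 (fun i => Nat.beq (Z i) 0) 3 16 6912 = true := by decide +kernel
theorem v145 : loop2 (fun i => Nat.beq (Z i) 0) 3 16 6960 = true := by decide +kernel
theorem v146 : loop2 (fun i => Nat.beq (Z i) 0) 3 16 7008 = true := by decide +kernel
theorem v147 : loop2 (fun i => Nat.beq (Z i) 0) 3 16 7056 = true := by decide +kernel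
theorem v148 : loop2 (fun i => Nat.beq (Z i) 0) 3 16 7104 = true := by decide +kernel
theorem v149 : loop2 (fun i => Nat.beq (Z i) 0) 3 16 7152 = true := by decide +kernel
theorem v150 : loop2 (fun i => Nat.beq (Z i) 0) 3 16 7200 = true := by decide +kernel
theorem v151 : loop2 (fun i => Nat.beq (Z i) 0) 3 16 7248 = true := by decide +kernel
theorem v152 : loop2 (fun i => Nat.beq (Z i) 0) 3 16 7296 = true := by decide +kernel
theorem v153 : loop2 (fun i => Nat.beq (Z i) 0) 3 16 7344 = true := by decide +kernel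
theorem v154 : loop2 (fun i => Nat.beq (Z i) 0) 3 16 7392 = true := by decide +kernel
theorem v155 : loop2 (fun i => Nat.beq (Z i) 0) 3 16 7440 = true := by decide +kernel
theorem v156 : loop2 (fun i => Nat.beq (Z i) 0) 3 16 7488 = true := by decide +kernel
theorem v157 : loop2 (fun i => Nat.beq (Z i) 0) 3 16 7536 = true := by decide +kernel
theorem v158 : loop2 (fun i => Nat.beq (Z i) 0) 3 16 7584 = true := by decide +kernel
theorem z0 : RngF (fun _ z => z = 0) Z 0 7632 := (RngF.app (RngF.app (RngF.app (RngF.app (RngF.app (RngF.app (RngF.app (rngZ_of_loop 48 v0 rfl) (rngZ_of_loop 96 v1 rfl)) (RngF.app (rngZ_of_loop 144 v2 rfl) (rngZ_of_loop 192 v3 rfl))) (RngF.app (RngF.app (rngZ_of_loop 240 v4 rfl) (rngZ_of_loop 288 v5 rfl)) (RngF.app (rngZ_of_loop 336 v6 rfl) (RngF.app (rngZ_of_loop 384 v7 rfl) (rngZ_of_loop 432 v8 rfl))))) (RngF.app (RngF.app (RngF.app (rngZ_of_loop 480 v9 rfl) (rngZ_of_loop 528 v10 rfl)) (RngF.app (rngZ_of_loop 576 v11 rfl) (RngF.app (rngZ_of_loop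 624 v12 rfl) (rngZ_of_loop 672 v13 rfl)))) (RngF.app (RngF.app (rngZ_of_loop 720 v14 rfl) (rngZ_of_loop 768 v15 rfl)) (RngF.app (rngZ_of_loop 816 v16 rfl) (RngF.app (rngZ_of_loop 864 v17 rfl) (rngZ_of_loop 912 v18 rfl)))))) (RngF.app (RngF.app (RngF.app (RngF.app (rngZ_of_loop 960 v19 rfl) (rngZ_of_loop 1008 v20 rfl)) (RngF.app (rngZ_of_loop 1056 v21 rfl) (RngF.app (rngZ_of_loop 1104 v22 rfl) (rngZ_of_loop 1152 v23 rfl)))) (RngF.app (RngF.app (rngZ_of_loop 1200 v24 rfl) (rngZ_of_loop 1248 v25 rfl)) (RngF.app (rngZ_of_loop 1296 v26 rfl) (RngF.app (rngZ_of_loop 1344 v27 rfl) (rngZ_of_loop 1392 v28 rfl))))) (RngF.app (RngF.app (RngF.app (rngZ_of_loop 1440 v29 rfl) (rngZ_of_loop 1488 v30 rfl)) (RngF.app (rngZ_of_loop 1536 v31 rfl) (RngF.app (rngZ_of_loop 1584 v32 rfl) (rngZ_of_loop 1632 v33 rfl)))) (RngF.app (RngF.app (rngZ_of_loop 1680 v34 rfl) (rngZ_of_loop 1728 v35 rfl)) (RngF.app (rngZ_of_loop 1776 v36 rfl) (RngF.app (rngZ_of_loop 1824 v37 rfl) (rngZ_of_loop 1872 v38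 rfl))))))) (RngF.app (RngF.app (RngF.app (RngF.app (RngF.app (rngZ_of_loop 1920 v39 rfl) (rngZ_of_loop 1968 v40 rfl)) (RngF.app (rngZ_of_loop 2016 v41 rfl) (RngF.app (rngZ_of_loop 2064 v42 rfl) (rngZ_of_loop 2112 v43 rfl)))) (RngF.app (RngF.app (rngZ_of_loop 2160 v44 rfl) (rngZ_of_loop 2208 v45 rfl)) (RngF.app (rngZ_of_loop 2256 v46 rfl) (RngF.app (rngZ_of_loop 2304 v47 rfl) (rngZ_of_loop 2352 v48 rfl))))) (RngF.app (RngF.app (RngF.app (rngZ_of_loop 2400 v49 rfl) (rngZ_of_loop 2448 v50 rfl)) (RngF.app (rngZ_of_loop 2496 v51 rfl) (RngF.app (rngZ_of_loop 2544 v52 rfl) (rngZ_of_loop 2592 v53 rfl)))) (RngF.app (RngF.app (rngZ_of_loop 2640 v54 rfl) (rngZ_of_loop 2688 v55 rfl)) (RngF.app (rngZ_of_loop 2736 v56 rfl) (RngF.app (rngZ_of_loop 2784 v57 rfl) (rngZ_of_loop 2832 v58 rfl)))))) (RngF.app (RngF.app (RngF.app (RngF.app (rngZ_of_loop 2880 v59 rfl) (rngZ_of_loop 2928 v60 rfl)) (RngF.app (rngZ_of_loop 2976 v61 rfl) (RngF.app (rngZ_of_loop 3024 v62 rfl) (rngZ_of_loop 3072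 v63 rfl)))) (RngF.app (RngF.app (rngZ_of_loop 3120 v64 rfl) (rngZ_of_loop 3168 v65 rfl)) (RngF.app (rngZ_of_loop 3216 v66 rfl) (RngF.app (rngZ_of_loop 3264 v67 rfl) (rngZ_of_loop 3312 v68 rfl))))) (RngF.app (RngF.app (RngF.app (rngZ_of_loop 3360 v69 rfl) (rngZ_of_loop 3408 v70 rfl)) (RngF.app (rngZ_of_loop 3456 v71 rfl) (RngF.app (rngZ_of_loop 3504 v72 rfl) (rngZ_of_loop 3552 v73 rfl)))) (RngF.app (RngF.app (rngZ_of_loop 3600 v74 rfl) (rngZ_of_loop 3648 v75 rfl)) (RngF.app (rngZ_of_loop 3696 v76 rfl) (RngF.app (rngZ_of_loop 3744 v77 rfl) (rngZ_of_loop 3792 v78 rfl)))))))) (RngF.app (RngF.app (RngF.app (RngF.app (RngF.app (RngF.app (rngZ_of_loop 3840 v79 rfl) (rngZ_of_loop 3888 v80 rfl)) (RngF.app (rngZ_of_loop 3936 v81 rfl) (RngF.app (rngZ_of_loop 3984 v82 rfl) (rngZ_of_loop 4032 v83 rfl)))) (RngF.app (RngF.app (rngZ_of_loop 4080 v84 rfl) (rngZ_of_loop 4128 v85 rfl)) (RngF.app (rngZ_of_loop 4176 v86 rfl) (RngF.app (rngZ_of_loop 4224 v87 rfl) (rngZ_of_loop 4272 v88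 rfl))))) (RngF.app (RngF.app (RngF.app (rngZ_of_loop 4320 v89 rfl) (rngZ_of_loop 4368 v90 rfl)) (RngF.app (rngZ_of_loop 4416 v91 rfl) (RngF.app (rngZ_of_loop 4464 v92 rfl) (rngZ_of_loop 4512 v93 rfl)))) (RngF.app (RngF.app (rngZ_of_loop 4560 v94 rfl) (rngZ_of_loop 4608 v95 rfl)) (RngF.app (rngZ_of_loop 4656 v96 rfl) (RngF.app (rngZ_of_loop 4704 v97 rfl) (rngZ_of_loop 4752 v98 rfl)))))) (RngF.app (RngF.app (RngF.app (RngF.app (rngZ_of_loop 4800 v99 rfl) (rngZ_of_loop 4848 v100 rfl)) (RngF.app (rngZ_of_loop 4896 v101 rfl) (RngF.app (rngZ_of_loop 4944 v102 rfl) (rngZ_of_loop 4992 v103 rfl)))) (RngF.app (RngF.app (rngZ_of_loop 5040 v104 rfl) (rngZ_of_loop 5088 v105 rfl)) (RngF.app (rngZ_of_loop 5136 v106 rfl) (RngF.app (rngZ_of_loop 5184 v107 rfl) (rngZ_of_loop 5232 v108 rfl))))) (RngF.app (RngF.app (RngF.app (rngZ_of_loop 5280 v109 rfl) (rngZ_of_loop 5328 v110 rfl)) (RngF.app (rngZ_of_loop 5376 v111 rfl) (RngF.app (rngZ_of_loop 5424 v112 rfl) (rngZ_of_loop 5472 v113 rfl))))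 (RngF.app (RngF.app (rngZ_of_loop 5520 v114 rfl) (rngZ_of_loop 5568 v115 rfl)) (RngF.app (rngZ_of_loop 5616 v116 rfl) (RngF.app (rngZ_of_loop 5664 v117 rfl) (rngZ_of_loop 5712 v118 rfl))))))) (RngF.app (RngF.app (RngF.app (RngF.app (RngF.app (rngZ_of_loop 5760 v119 rfl) (rngZ_of_loop 5808 v120 rfl)) (RngF.app (rngZ_of_loop 5856 v121 rfl) (RngF.app (rngZ_of_loop 5904 v122 rfl) (rngZ_of_loop 5952 v123 rfl)))) (RngF.app (RngF.app (rngZ_of_loop 6000 v124 rfl) (rngZ_of_loop 6048 v125 rfl)) (RngF.app (rngZ_of_loop 6096 v126 rfl) (RngF.app (rngZ_of_loop 6144 v127 rfl) (rngZ_of_loop 6192 v128 rfl))))) (RngF.app (RngF.app (RngF.app (rngZ_of_loop 6240 v129 rfl) (rngZ_of_loop 6288 v130 rfl)) (RngF.app (rngZ_of_loop 6336 v131 rfl) (RngF.app (rngZ_of_loop 6384 v132 rfl) (rngZ_of_loop 6432 v133 rfl)))) (RngF.app (RngF.app (rngZ_of_loop 6480 v134 rfl) (rngZ_of_loop 6528 v135 rfl)) (RngF.app (rngZ_of_loop 6576 v136 rfl) (RngF.app (rngZ_of_loop 6624 v137 rfl) (rngZ_of_loop 6672 v138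 rfl)))))) (RngF.app (RngF.app (RngF.app (RngF.app (rngZ_of_loop 6720 v139 rfl) (rngZ_of_loop 6768 v140 rfl)) (RngF.app (rngZ_of_loop 6816 v141 rfl) (RngF.app (rngZ_of_loop 6864 v142 rfl) (rngZ_of_loop 6912 v143 rfl)))) (RngF.app (RngF.app (rngZ_of_loop 6960 v144 rfl) (rngZ_of_loop 7008 v145 rfl)) (RngF.app (rngZ_of_loop 7056 v146 rfl) (RngF.app (rngZ_of_loop 7104 v147 rfl) (rngZ_of_loop 7152 v148 rfl))))) (RngF.app (RngF.app (RngF.app (rngZ_of_loop 7200 v149 rfl) (rngZ_of_loop 7248 v150 rfl)) (RngF.app (rngZ_of_loop 7296 v151 rfl) (RngF.app (rngZ_of_loop 7344 v152 rfl) (rngZ_of_loop 7392 v153 rfl)))) (RngF.app (RngF.app (rngZ_of_loop 7440 v154 rfl) (rngZ_of_loop 7488 v155 rfl)) (RngF.app (rngZ_of_loop 7536 v156 rfl) (RngF.app (rngZ_of_loop 7584 v157 rfl) (rngZ_of_loop 7632 v158 rfl)))))))))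

end H34.Suz1
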