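import Cfsg.Agent.Lib.H34.Suz1.PData

set_option autoImplicit false
set_option maxRecDepth 100000
set_option Elab.async false

noncomputable section

namespace H34.Suz1

open H34.T2

theorem v159 : loop2 (fun i => Nat.beq (Z i) 0) 3 16 7632 = true := by decide +kernel
theorem v160 : loop2 (fun i => Nat.beq (Z i) 0) 3 16 7680 = true := by decide +kernel
theorem v161 : loop2 (fun i => Nat.beq (Z i) 0) 3 16 7728 = true := by decide +kernel
theorem v162 : loop2 (fun i => Nat.beq (Z i) 0) 3 16 7776 = true := by decide +kernel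
theorem v163 : loop2 (fun i => Nat.beq (Z i) 0) 3 16 7824 = true := by decide +kernel
theorem v164 : loop2 (fun i => Nat.beq (Z i) 0) 3 16 7872 = true := by decide +kernel
theorem v165 : loop2 (fun i => Nat.beq (Z i) 0) 3 16 7920 = true := by decide +kernel
theorem v166 : loop2 (fun i => Nat.beq (Z i) 0) 3 16 7968 = true := by decide +kernel
theorem v167 : loop2 (fun i => Nat.beq (Z i) 0) 3 16 8016 = true := by decide +kernel
theorem v168 : loop2 (fun i => Nat.beq (Z i) 0) 3 16 8064 = true := by decide +kernel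
theorem v169 : loop2 (fun i => Nat.beq (Z i) 0) 3 16 8112 = true := by decide +kernel
theorem v170 : loop2 (fun i => Nat.beq (Z i) 0) 3 16 8160 = true := by decide +kernel
theorem v171 : loop2 (fun i => Nat.beq (Z i) 0) 3 16 8208 = true := by decide +kernel
theorem v172 : loop2 (fun i => Nat.beq (Z i) 0) 3 16 8256 = true := by decide +kernel
theorem v173 : loop2 (fun i => Nat.beq (Z i) 0) 3 16 8304 = true := by decide +kernel
theorem v174 : loop2 (fun i => Nat.beq (Z i) 0) 3 16 8352 = true := by decide +kernel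
theorem v175 : loop2 (fun i => Nat.beq (Z i) 0) 3 16 8400 = true := by decide +kernel
theorem v176 : loop2 (fun i => Nat.beq (Z i) 0) 3 16 8448 = true := by decide +kernel
theorem v177 : loop2 (fun i => Nat.beq (Z i) 0) 3 16 8496 = true := by decide +kernel
theorem v178 : loop2 (fun i => Nat.beq (Z i) 0) 3 16 8544 = true := by decide +kernel
theorem v179 : loop2 (fun i => Nat.beq (Z i) 0) 3 16 8592 = true := by decide +kernel
theorem v180 : loop2 (fun i => Nat.beq (Z i) 0) 3 16 8640 = true := by decide +kernel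
theorem v181 : loop2 (fun i => Nat.beq (Z i) 0) 3 16 8688 = true := by decide +kernel
theorem v182 : loop2 (fun i => Nat.beq (Z i) 0) 3 16 8736 = true := by decide +kernel
theorem v183 : loop2 (fun i => Nat.beq (Z i) 0) 3 16 8784 = true := by decide +kernel
theorem v184 : loop2 (fun i => Nat.beq (Z i) 0) 3 16 8832 = true := by decide +kernel
theorem v185 : loop2 (fun i => Nat.beq (Z i) 0) 3 16 8880 = true := by decide +kernel
theorem v186 : loop2 (fun i => Nat.beq (Z i) 0) 3 16 8928 = true := by decide +kernel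
theorem v187 : loop2 (fun i => Nat.beq (Z i) 0) 3 16 8976 = true := by decide +kernel
theorem v188 : loop2 (fun i => Nat.beq (Z i) 0) 3 16 9024 = true := by decide +kernel
theorem v189 : loop2 (fun i => Nat.beq (Z i) 0) 3 16 9072 = true := by decide +kernel
theorem v190 : loop2 (fun i => Nat.beq (Z i) 0) 3 16 9120 = true := by decide +kernel
theorem v191 : loop2 (fun i => Nat.beq (Z i) 0) 3 16 9168 = true := by decide +kernel
theorem v192 : loop2 (fun i => Nat.beq (Z i) 0) 3 16 9216 = true := by decide +kernel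
theorem v193 : loop2 (fun i => Nat.beq (Z i) 0) 3 16 9264 = true := by decide +kernel
theorem v194 : loop2 (fun i => Nat.beq (Z i) 0) 3 16 9312 = true := by decide +kernel
theorem v195 : loop2 (fun i => Nat.beq (Z i) 0) 3 16 9360 = true := by decide +kernel
theorem v196 : loop2 (fun i => Nat.beq (Z i) 0) 3 16 9408 = true := by decide +kernel
theorem v197 : loop2 (fun i => Nat.beq (Z i) 0) 3 16 9456 = true := by decide +kernel
theorem v198 : loop2 (fun i => Nat.beq (Z i) 0) 3 16 9504 = true := by decide +kernel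
theorem v199 : loop2 (fun i => Nat.beq (Z i) 0) 3 16 9552 = true := by decide +kernel
theorem v200 : loop2 (fun i => Nat.beq (Z i) 0) 3 16 9600 = true := by decide +kernel
theorem v201 : loop2 (fun i => Nat.beq (Z i) 0) 3 16 9648 = true := by decide +kernel
theorem v202 : loop2 (fun i => Nat.beq (Z i) 0) 3 16 9696 = true := by decide +kernel
theorem v203 : loop2 (fun i => Nat.beq (Z i) 0) 3 16 9744 = true := by decide +kernel
theorem v204 : loop2 (fun i => Nat.beq (Z i) 0) 3 16 9792 = true := by decide +kernel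
theorem v205 : loop2 (fun i => Nat.beq (Z i) 0) 3 16 9840 = true := by decide +kernel
theorem v206 : loop2 (fun i => Nat.beq (Z i) 0) 3 16 9888 = true := by decide +kernel
theorem v207 : loop2 (fun i => Nat.beq (Z i) 0) 3 16 9936 = true := by decide +kernel
theorem v208 : loop2 (fun i => Nat.beq (Z i) 0) 3 16 9984 = true := by decide +kernel
theorem v209 : loop2 (fun i => Nat.beq (Z i) 0) 3 16 10032 = true := by decide +kernel
theorem v210 : loop2 (fun i => Nat.beq (Z i) 0) 3 16 10080 = true := by decide +kernel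
theorem v211 : loop2 (fun i => Nat.beq (Z i) 0) 3 16 10128 = true := by decide +kernel
theorem v212 : loop2 (fun i => Nat.beq (Z i) 0) 3 16 10176 = true := by decide +kernel
theorem v213 : loop2 (fun i => Nat.beq (Z i) 0) 3 16 10224 = true := by decide +kernel
theorem v214 : loop2 (fun i => Nat.beq (Z i) 0) 3 16 10272 = true := by decide +kernel
theorem v215 : loop2 (fun i => Nat.beq (Z i) 0) 3 16 10320 = true := by decide +kernel
theorem v216 : loop2 (fun i => Nat.beq (Z i) 0) 3 16 10368 = true := by decide +kernel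
theorem v217 : loop2 (fun i => Nat.beq (Z i) 0) 3 16 10416 = true := by decide +kernel
theorem v218 : loop2 (fun i => Nat.beq (Z i) 0) 3 16 10464 = true := by decide +kernel
theorem v219 : loop2 (fun i => Nat.beq (Z i) 0) 3 16 10512 = true := by decide +kernel
theorem v220 : loop2 (fun i => Nat.beq (Z i) 0) 3 16 10560 = true := by decide +kernel
theorem v221 : loop2 (fun i => Nat.beq (Z i) 0) 3 16 10608 = true := by decide +kernel
theorem v222 : loop2 (fun i => Nat.beq (Z i) 0) 3 16 10656 = true := by decide +kernel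
theorem v223 : loop2 (fun i => Nat.beq (Z i) 0) 3 16 10704 = true := by decide +kernel
theorem v224 : loop2 (fun i => Nat.beq (Z i) 0) 3 16 10752 = true := by decide +kernel
theorem v225 : loop2 (fun i => Nat.beq (Z i) 0) 3 16 10800 = true := by decide +kernel
theorem v226 : loop2 (fun i => Nat.beq (Z i) 0) 3 16 10848 = true := by decide +kernel
theorem v227 : loop2 (fun i => Nat.beq (Z i) 0) 3 16 10896 = true := by decide +kernel
theorem v228 : loop2 (fun i => Nat.beq (Z i) 0) 3 16 10944 = true := by decide +kernel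
theorem v229 : loop2 (fun i => Nat.beq (Z i) 0) 3 16 10992 = true := by decide +kernel
theorem v230 : loop2 (fun i => Nat.beq (Z i) 0) 3 16 11040 = true := by decide +kernel
theorem v231 : loop2 (fun i => Nat.beq (Z i) 0) 3 16 11088 = true := by decide +kernel
theorem v232 : loop2 (fun i => Nat.beq (Z i) 0) 3 16 11136 = true := by decide +kernel
theorem v233 : loop2 (fun i => Nat.beq (Z i) 0) 3 16 11184 = true := by decide +kernel
theorem v234 : loop2 (fun i => Nat.beq (Z i) 0) 3 16 11232 = true := by decide +kernel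
theorem v235 : loop2 (fun i => Nat.beq (Z i) 0) 3 16 11280 = true := by decide +kernel
theorem v236 : loop2 (fun i => Nat.beq (Z i) 0) 3 16 11328 = true := by decide +kernel
theorem v237 : loop2 (fun i => Nat.beq (Z i) 0) 3 16 11376 = true := by decide +kernel
theorem v238 : loop2 (fun i => Nat.beq (Z i) 0) 3 16 11424 = true := by decide +kernel
theorem v239 : loop2 (fun i => Nat.beq (Z i) 0) 3 16 11472 = true := by decide +kernel
theorem v240 : loop2 (fun i => Nat.beq (Z i) 0) 3 16 11520 = true := by decide +kernel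
theorem v241 : loop2 (fun i => Nat.beq (Z i) 0) 3 16 11568 = true := by decide +kernel
theorem v242 : loop2 (fun i => Nat.beq (Z i) 0) 3 16 11616 = true := by decide +kernel
theorem v243 : loop2 (fun i => Nat.beq (Z i) 0) 3 16 11664 = true := by decide +kernel
theorem v244 : loop2 (fun i => Nat.beq (Z i) 0) 3 16 11712 = true := by decide +kernel
theorem v245 : loop2 (fun i => Nat.beq (Z i) 0) 3 16 11760 = true := by decide +kernel
theorem v246 : loop2 (fun i => Nat.beq (Z i) 0) 3 16 11808 = true := by decide +kernel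
theorem v247 : loop2 (fun i => Nat.beq (Z i) 0) 3 16 11856 = true := by decide +kernel
theorem v248 : loop2 (fun i => Nat.beq (Z i) 0) 3 16 11904 = true := by decide +kernel
theorem v249 : loop2 (fun i => Nat.beq (Z i) 0) 3 16 11952 = true := by decide +kernel
theorem v250 : loop2 (fun i => Nat.beq (Z i) 0) 3 16 12000 = true := by decide +kernel
theorem v251 : loop2 (fun i => Nat.beq (Z i) 0) 3 16 12048 = true := by decide +kernel
theorem v252 : loop2 (fun i => Nat.beq (Z i) 0) 3 16 12096 = true := by decide +kernel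
theorem v253 : loop2 (fun i => Nat.beq (Z i) 0) 3 16 12144 = true := by decide +kernel
theorem v254 : loop2 (fun i => Nat.beq (Z i) 0) 3 16 12192 = true := by decide +kernel
theorem v255 : loop2 (fun i => Nat.beq (Z i) 0) 3 16 12240 = true := by decide +kernel
theorem v256 : loop2 (fun i => Nat.beq (Z i) 0) 3 16 12288 = true := by decide +kernel
theorem v257 : loop2 (fun i => Nat.beq (Z i) 0) 3 16 12336 = true := by decide +kernel
theorem v258 : loop2 (fun i => Nat.beq (Z i) 0) 3 16 12384 = true := by decide +kernel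
theorem v259 : loop2 (fun i => Nat.beq (Z i) 0) 3 16 12432 = true := by decide +kernel
theorem v260 : loop2 (fun i => Nat.beq (Z i) 0) 3 16 12480 = true := by decide +kernel
theorem v261 : loop2 (fun i => Nat.beq (Z i) 0) 3 16 12528 = true := by decide +kernel
theorem v262 : loop2 (fun i => Nat.beq (Z i) 0) 3 16 12576 = true := by decide +kernel
theorem v263 : loop2 (fun i => Nat.beq (Z i) 0) 3 16 12624 = true := by decide +kernel
theorem v264 : loop2 (fun i => Nat.beq (Z i) 0) 3 16 12672 = true := by decide +kernel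
theorem v265 : loop2 (fun i => Nat.beq (Z i) 0) 3 16 12720 = true := by decide +kernel
theorem v266 : loop2 (fun i => Nat.beq (Z i) 0) 3 16 12768 = true := by decide +kernel
theorem v267 : loop2 (fun i => Nat.beq (Z i) 0) 3 16 12816 = true := by decide +kernel
theorem v268 : loop2 (fun i => Nat.beq (Z i) 0) 3 16 12864 = true := by decide +kernel
theorem v269 : loop2 (fun i => Nat.beq (Z i) 0) 3 16 12912 = true := by decide +kernel
theorem v270 : loop2 (fun i => Nat.beq (Z i) 0) 3 16 12960 = true := by decide +kernel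
theorem v271 : loop2 (fun i => Nat.beq (Z i) 0) 3 16 13008 = true := by decide +kernel
theorem v272 : loop2 (fun i => Nat.beq (Z i) 0) 3 16 13056 = true := by decide +kernel
theorem v273 : loop2 (fun i => Nat.beq (Z i) 0) 3 16 13104 = true := by decide +kernel
theorem v274 : loop2 (fun i => Nat.beq (Z i) 0) 3 16 13152 = true := by decide +kernel
theorem v275 : loop2 (fun i => Nat.beq (Z i) 0) 3 16 13200 = true := by decide +kernel
theorem v276 : loop2 (fun i => Nat.beq (Z i) 0) 3 16 13248 = true := by decide +kernel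
theorem v277 : loop2 (fun i => Nat.beq (Z i) 0) 3 16 13296 = true := by decide +kernel
theorem v278 : loop2 (fun i => Nat.beq (Z i) 0) 3 16 13344 = true := by decide +kernel
theorem v279 : loop2 (fun i => Nat.beq (Z i) 0) 3 16 13392 = true := by decide +kernel
theorem v280 : loop2 (fun i => Nat.beq (Z i) 0) 3 16 13440 = true := by decide +kernel
theorem v281 : loop2 (fun i => Nat.beq (Z i) 0) 3 16 13488 = true := by decide +kernel
theorem v282 : loop2 (fun i => Nat.beq (Z i) 0) 3 16 13536 = true := by decide +kernel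
theorem v283 : loop2 (fun i => Nat.beq (Z i) 0) 3 16 13584 = true := by decide +kernel
theorem v284 : loop2 (fun i => Nat.beq (Z i) 0) 3 16 13632 = true := by decide +kernel
theorem v285 : loop2 (fun i => Nat.beq (Z i) 0) 3 16 13680 = true := by decide +kernel
theorem v286 : loop2 (fun i => Nat.beq (Z i) 0) 3 16 13728 = true := by decide +kernel
theorem v287 : loop2 (fun i => Nat.beq (Z i) 0) 3 16 13776 = true := by decide +kernel
theorem v288 : loop2 (fun i => Nat.beq (Z i) 0) 3 16 13824 = true := by decide +kernel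
theorem v289 : loop2 (fun i => Nat.beq (Z i) 0) 3 16 13872 = true := by decide +kernel
theorem v290 : loop2 (fun i => Nat.beq (Z i) 0) 3 16 13920 = true := by decide +kernel
theorem v291 : loop2 (fun i => Nat.beq (Z i) 0) 3 16 13968 = true := by decide +kernel
theorem v292 : loop2 (fun i => Nat.beq (Z i) 0) 3 16 14016 = true := by decide +kernel
theorem v293 : loop2 (fun i => Nat.beq (Z i) 0) 3 16 14064 = true := by decide +kernel
theorem v294 : loop2 (fun i => Nat.beq (Z i) 0) 3 16 14112 = true := by decide +kernel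
theorem v295 : loop2 (fun i => Nat.beq (Z i) 0) 3 16 14160 = true := by decide +kernel
theorem v296 : loop2 (fun i => Nat.beq (Z i) 0) 3 16 14208 = true := by decide +kernel
theorem v297 : loop2 (fun i => Nat.beq (Z i) 0) 3 16 14256 = true := by decide +kernel
theorem v298 : loop2 (fun i => Nat.beq (Z i) 0) 3 16 14304 = true := by decide +kernel
theorem v299 : loop2 (fun i => Nat.beq (Z i) 0) 3 16 14352 = true := by decide +kernel
theorem v300 : loop2 (fun i => Nat.beq (Z i) 0) 3 16 14400 = true := by decide +kernel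
theorem v301 : loop2 (fun i => Nat.beq (Z i) 0) 3 16 14448 = true := by decide +kernel
theorem v302 : loop2 (fun i => Nat.beq (Z i) 0) 3 16 14496 = true := by decide +kernel
theorem v303 : loop2 (fun i => Nat.beq (Z i) 0) 3 16 14544 = true := by decide +kernel
theorem v304 : loop2 (fun i => Nat.beq (Z i) 0) 3 16 14592 = true := by decide +kernel
theorem v305 : loop2 (fun i => Nat.beq (Z i) 0) 3 16 14640 = true := by decide +kernel
theorem v306 : loop2 (fun i => Nat.beq (Z i) 0) 3 16 14688 = true := by decide +kernel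
theorem v307 : loop2 (fun i => Nat.beq (Z i) 0) 3 16 14736 = true := by decide +kernel
theorem v308 : loop2 (fun i => Nat.beq (Z i) 0) 3 16 14784 = true := by decide +kernel
theorem v309 : loop2 (fun i => Nat.beq (Z i) 0) 3 16 14832 = true := by decide +kernel
theorem v310 : loop2 (fun i => Nat.beq (Z i) 0) 3 16 14880 = true := by decide +kernel
theorem v311 : loop2 (fun i => Nat.beq (Z i) 0) 3 16 14928 = true := by decide +kernel
theorem v312 : loop2 (fun i => Nat.beq (Z i) 0) 3 16 14976 = true := by decide +kernel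
theorem v313 : loop2 (fun i => Nat.beq (Z i) 0) 3 16 15024 = true := by decide +kernel
theorem v314 : loop2 (fun i => Nat.beq (Z i) 0) 3 16 15072 = true := by decide +kernel
theorem v315 : loop2 (fun i => Nat.beq (Z i) 0) 3 16 15120 = true := by decide +kernel
theorem v316 : loop2 (fun i => Nat.beq (Z i) 0) 3 16 15168 = true := by decide +kernel
theorem v317 : loop2 (fun i => Nat.beq (Z i) 0) 3 16 15216 = true := by decide +kernel
theorem z1 : RngF (fun _ z => z = 0) Z 7632 15264 := (RngF.app (RngF.app (RngF.app (RngF.app (RngF.app (RngF.app (RngF.app (rngZ_of_loop 7680 v159 rfl) (rngZ_of_loop 7728 v160 rfl)) (RngF.app (rngZ_of_loop 7776 v161 rfl) (rngZ_of_loop 7824 v162 rfl))) (RngF.app (RngF.app (rngZ_of_loop 7872 v163 rfl) (rngZ_of_loop 7920 v164 rfl)) (RngF.app (rngZ_of_loop 7968 v165 rfl) (RngF.app (rngZ_of_loop 8016 v166 rfl) (rngZ_of_loop 8064 v167 rfl))))) (RngF.app (RngF.app (RngF.app (rngZ_of_loop 8112 v168 rfl) (rngZ_of_loop 8160 v169 rfl)) (RngF.app (rngZ_of_loop 8208 v170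 rfl) (RngF.app (rngZ_of_loop 8256 v171 rfl) (rngZ_of_loop 8304 v172 rfl)))) (RngF.app (RngF.app (rngZ_of_loop 8352 v173 rfl) (rngZ_of_loop 8400 v174 rfl)) (RngF.app (rngZ_of_loop 8448 v175 rfl) (RngF.app (rngZ_of_loop 8496 v176 rfl) (rngZ_of_loop 8544 v177 rfl)))))) (RngF.app (RngF.app (RngF.app (RngF.app (rngZ_of_loop 8592 v178 rfl) (rngZ_of_loop 8640 v179 rfl)) (RngF.app (rngZ_of_loop 8688 v180 rfl) (RngF.app (rngZ_of_loop 8736 v181 rfl) (rngZ_of_loop 8784 v182 rfl)))) (RngF.app (RngF.app (rngZ_of_loop 8832 v183 rfl) (rngZ_of_loop 8880 v184 rfl)) (RngF.app (rngZ_of_loop 8928 v185 rfl) (RngF.app (rngZ_of_loop 8976 v186 rfl) (rngZ_of_loop 9024 v187 rfl))))) (RngF.app (RngF.app (RngF.app (rngZ_of_loop 9072 v188 rfl) (rngZ_of_loop 9120 v189 rfl)) (RngF.app (rngZ_of_loop 9168 v190 rfl) (RngF.app (rngZ_of_loop 9216 v191 rfl) (rngZ_of_loop 9264 v192 rfl)))) (RngF.app (RngF.app (rngZ_of_loop 9312 v193 rfl) (rngZ_of_loop 9360 v194 rfl)) (RngF.app (rngZ_of_loop 9408 v195 rfl) (RngF.app (rngZ_of_loop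 9456 v196 rfl) (rngZ_of_loop 9504 v197 rfl))))))) (RngF.app (RngF.app (RngF.app (RngF.app (RngF.app (rngZ_of_loop 9552 v198 rfl) (rngZ_of_loop 9600 v199 rfl)) (RngF.app (rngZ_of_loop 9648 v200 rfl) (RngF.app (rngZ_of_loop 9696 v201 rfl) (rngZ_of_loop 9744 v202 rfl)))) (RngF.app (RngF.app (rngZ_of_loop 9792 v203 rfl) (rngZ_of_loop 9840 v204 rfl)) (RngF.app (rngZ_of_loop 9888 v205 rfl) (RngF.app (rngZ_of_loop 9936 v206 rfl) (rngZ_of_loop 9984 v207 rfl))))) (RngF.app (RngF.app (RngF.app (rngZ_of_loop 10032 v208 rfl) (rngZ_of_loop 10080 v209 rfl)) (RngF.app (rngZ_of_loop 10128 v210 rfl) (RngF.app (rngZ_of_loop 10176 v211 rfl) (rngZ_of_loop 10224 v212 rfl)))) (RngF.app (RngF.app (rngZ_of_loop 10272 v213 rfl) (rngZ_of_loop 10320 v214 rfl)) (RngF.app (rngZ_of_loop 10368 v215 rfl) (RngF.app (rngZ_of_loop 10416 v216 rfl) (rngZ_of_loop 10464 v217 rfl)))))) (RngF.app (RngF.app (RngF.app (RngF.app (rngZ_of_loop 10512 v218 rfl) (rngZ_of_loop 10560 v219 rfl)) (RngF.app (rngZ_of_loop 10608 v220 rfl)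 (RngF.app (rngZ_of_loop 10656 v221 rfl) (rngZ_of_loop 10704 v222 rfl)))) (RngF.app (RngF.app (rngZ_of_loop 10752 v223 rfl) (rngZ_of_loop 10800 v224 rfl)) (RngF.app (rngZ_of_loop 10848 v225 rfl) (RngF.app (rngZ_of_loop 10896 v226 rfl) (rngZ_of_loop 10944 v227 rfl))))) (RngF.app (RngF.app (RngF.app (rngZ_of_loop 10992 v228 rfl) (rngZ_of_loop 11040 v229 rfl)) (RngF.app (rngZ_of_loop 11088 v230 rfl) (RngF.app (rngZ_of_loop 11136 v231 rfl) (rngZ_of_loop 11184 v232 rfl)))) (RngF.app (RngF.app (rngZ_of_loop 11232 v233 rfl) (rngZ_of_loop 11280 v234 rfl)) (RngF.app (rngZ_of_loop 11328 v235 rfl) (RngF.app (rngZ_of_loop 11376 v236 rfl) (rngZ_of_loop 11424 v237 rfl)))))))) (RngF.app (RngF.app (RngF.app (RngF.app (RngF.app (RngF.app (rngZ_of_loop 11472 v238 rfl) (rngZ_of_loop 11520 v239 rfl)) (RngF.app (rngZ_of_loop 11568 v240 rfl) (RngF.app (rngZ_of_loop 11616 v241 rfl) (rngZ_of_loop 11664 v242 rfl)))) (RngF.app (RngF.app (rngZ_of_loop 11712 v243 rfl) (rngZ_of_loop 11760 v244 rfl)) (RngF.app (rngZ_of_loop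 11808 v245 rfl) (RngF.app (rngZ_of_loop 11856 v246 rfl) (rngZ_of_loop 11904 v247 rfl))))) (RngF.app (RngF.app (RngF.app (rngZ_of_loop 11952 v248 rfl) (rngZ_of_loop 12000 v249 rfl)) (RngF.app (rngZ_of_loop 12048 v250 rfl) (RngF.app (rngZ_of_loop 12096 v251 rfl) (rngZ_of_loop 12144 v252 rfl)))) (RngF.app (RngF.app (rngZ_of_loop 12192 v253 rfl) (rngZ_of_loop 12240 v254 rfl)) (RngF.app (rngZ_of_loop 12288 v255 rfl) (RngF.app (rngZ_of_loop 12336 v256 rfl) (rngZ_of_loop 12384 v257 rfl)))))) (RngF.app (RngF.app (RngF.app (RngF.app (rngZ_of_loop 12432 v258 rfl) (rngZ_of_loop 12480 v259 rfl)) (RngF.app (rngZ_of_loop 12528 v260 rfl) (RngF.app (rngZ_of_loop 12576 v261 rfl) (rngZ_of_loop 12624 v262 rfl)))) (RngF.app (RngF.app (rngZ_of_loop 12672 v263 rfl) (rngZ_of_loop 12720 v264 rfl)) (RngF.app (rngZ_of_loop 12768 v265 rfl) (RngF.app (rngZ_of_loop 12816 v266 rfl) (rngZ_of_loop 12864 v267 rfl))))) (RngF.app (RngF.app (RngF.app (rngZ_of_loop 12912 v268 rfl) (rngZ_of_loop 12960 v269 rfl)) (RngF.app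 (rngZ_of_loop 13008 v270 rfl) (RngF.app (rngZ_of_loop 13056 v271 rfl) (rngZ_of_loop 13104 v272 rfl)))) (RngF.app (RngF.app (rngZ_of_loop 13152 v273 rfl) (rngZ_of_loop 13200 v274 rfl)) (RngF.app (rngZ_of_loop 13248 v275 rfl) (RngF.app (rngZ_of_loop 13296 v276 rfl) (rngZ_of_loop 13344 v277 rfl))))))) (RngF.app (RngF.app (RngF.app (RngF.app (RngF.app (rngZ_of_loop 13392 v278 rfl) (rngZ_of_loop 13440 v279 rfl)) (RngF.app (rngZ_of_loop 13488 v280 rfl) (RngF.app (rngZ_of_loop 13536 v281 rfl) (rngZ_of_loop 13584 v282 rfl)))) (RngF.app (RngF.app (rngZ_of_loop 13632 v283 rfl) (rngZ_of_loop 13680 v284 rfl)) (RngF.app (rngZ_of_loop 13728 v285 rfl) (RngF.app (rngZ_of_loop 13776 v286 rfl) (rngZ_of_loop 13824 v287 rfl))))) (RngF.app (RngF.app (RngF.app (rngZ_of_loop 13872 v288 rfl) (rngZ_of_loop 13920 v289 rfl)) (RngF.app (rngZ_of_loop 13968 v290 rfl) (RngF.app (rngZ_of_loop 14016 v291 rfl) (rngZ_of_loop 14064 v292 rfl)))) (RngF.app (RngF.app (rngZ_of_loop 14112 v293 rfl) (rngZ_of_loop 14160 v294 rfl))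 (RngF.app (rngZ_of_loop 14208 v295 rfl) (RngF.app (rngZ_of_loop 14256 v296 rfl) (rngZ_of_loop 14304 v297 rfl)))))) (RngF.app (RngF.app (RngF.app (RngF.app (rngZ_of_loop 14352 v298 rfl) (rngZ_of_loop 14400 v299 rfl)) (RngF.app (rngZ_of_loop 14448 v300 rfl) (RngF.app (rngZ_of_loop 14496 v301 rfl) (rngZ_of_loop 14544 v302 rfl)))) (RngF.app (RngF.app (rngZ_of_loop 14592 v303 rfl) (rngZ_of_loop 14640 v304 rfl)) (RngF.app (rngZ_of_loop 14688 v305 rfl) (RngF.app (rngZ_of_loop 14736 v306 rfl) (rngZ_of_loop 14784 v307 rfl))))) (RngF.app (RngF.app (RngF.app (rngZ_of_loop 14832 v308 rfl) (rngZ_of_loop 14880 v309 rfl)) (RngF.app (rngZ_of_loop 14928 v310 rfl) (RngF.app (rngZ_of_loop 14976 v311 rfl) (rngZ_of_loop 15024 v312 rfl)))) (RngF.app (RngF.app (rngZ_of_loop 15072 v313 rfl) (rngZ_of_loop 15120 v314 rfl)) (RngF.app (rngZ_of_loop 15168 v315 rfl) (RngF.app (rngZ_of_loop 15216 v316 rfl) (rngZ_of_loop 15264 v317 rfl)))))))))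

end H34.Suz1
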