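import Cfsg.Agent.Lib.H34.Suz1.PData

set_option autoImplicit false
set_option maxRecDepth 100000
set_option Elab.async false

noncomputable section

namespace H34.Suz1

open H34.T2

theorem v318 : loop2 (fun i => Nat.beq (Z i) 0) 3 16 15264 = true := by decide +kernel
theorem v319 : loop2 (fun i => Nat.beq (Z i) 0) 3 16 15312 = true := by decide +kernel
theorem v320 : loop2 (fun i => Nat.beq (Z i) 0) 3 16 15360 = true := by decide +kernel
theorem v321 : loop2 (fun i => Nat.beq (Z i) 0) 3 16 15408 = true := by decide +kernel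
theorem v322 : loop2 (fun i => Nat.beq (Z i) 0) 3 16 15456 = true := by decide +kernel
theorem v323 : loop2 (fun i => Nat.beq (Z i) 0) 3 16 15504 = true := by decide +kernel
theorem v324 : loop2 (fun i => Nat.beq (Z i) 0) 3 16 15552 = true := by decide +kernel
theorem v325 : loop2 (fun i => Nat.beq (Z i) 0) 3 16 15600 = true := by decide +kernel
theorem v326 : loop2 (fun i => Nat.beq (Z i) 0) 3 16 15648 = true := by decide +kernel
theorem v327 : loop2 (fun i => Nat.beq (Z i) 0) 3 16 15696 = true := by decide +kernel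
theorem v328 : loop2 (fun i => Nat.beq (Z i) 0) 3 16 15744 = true := by decide +kernel
theorem v329 : loop2 (fun i => Nat.beq (Z i) 0) 3 16 15792 = true := by decide +kernel
theorem v330 : loop2 (fun i => Nat.beq (Z i) 0) 3 16 15840 = true := by decide +kernel
theorem v331 : loop2 (fun i => Nat.beq (Z i) 0) 3 16 15888 = true := by decide +kernel
theorem v332 : loop2 (fun i => Nat.beq (Z i) 0) 3 16 15936 = true := by decide +kernel
theorem v333 : loop2 (fun i => Nat.beq (Z i) 0) 3 16 15984 = true := by decide +kernel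
theorem v334 : loop2 (fun i => Nat.beq (Z i) 0) 3 16 16032 = true := by decide +kernel
theorem v335 : loop2 (fun i => Nat.beq (Z i) 0) 3 16 16080 = true := by decide +kernel
theorem v336 : loop2 (fun i => Nat.beq (Z i) 0) 3 16 16128 = true := by decide +kernel
theorem v337 : loop2 (fun i => Nat.beq (Z i) 0) 3 16 16176 = true := by decide +kernel
theorem v338 : loop2 (fun i => Nat.beq (Z i) 0) 3 16 16224 = true := by decide +kernel
theorem v339 : loop2 (fun i => Nat.beq (Z i) 0) 3 16 16272 = true := by decide +kernel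
theorem v340 : loop2 (fun i => Nat.beq (Z i) 0) 3 16 16320 = true := by decide +kernel
theorem v341 : loop2 (fun i => Nat.beq (Z i) 0) 3 16 16368 = true := by decide +kernel
theorem v342 : loop2 (fun i => Nat.beq (Z i) 0) 3 16 16416 = true := by decide +kernel
theorem v343 : loop2 (fun i => Nat.beq (Z i) 0) 3 16 16464 = true := by decide +kernel
theorem v344 : loop2 (fun i => Nat.beq (Z i) 0) 3 16 16512 = true := by decide +kernel
theorem v345 : loop2 (fun i => Nat.beq (Z i) 0) 3 16 16560 = true := by decide +kernel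
theorem v346 : loop2 (fun i => Nat.beq (Z i) 0) 3 16 16608 = true := by decide +kernel
theorem v347 : loop2 (fun i => Nat.beq (Z i) 0) 3 16 16656 = true := by decide +kernel
theorem v348 : loop2 (fun i => Nat.beq (Z i) 0) 3 16 16704 = true := by decide +kernel
theorem v349 : loop2 (fun i => Nat.beq (Z i) 0) 3 16 16752 = true := by decide +kernel
theorem v350 : loop2 (fun i => Nat.beq (Z i) 0) 3 16 16800 = true := by decide +kernel
theorem v351 : loop2 (fun i => Nat.beq (Z i) 0) 3 16 16848 = true := by decide +kernel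
theorem v352 : loop2 (fun i => Nat.beq (Z i) 0) 3 16 16896 = true := by decide +kernel
theorem v353 : loop2 (fun i => Nat.beq (Z i) 0) 3 16 16944 = true := by decide +kernel
theorem v354 : loop2 (fun i => Nat.beq (Z i) 0) 3 16 16992 = true := by decide +kernel
theorem v355 : loop2 (fun i => Nat.beq (Z i) 0) 3 16 17040 = true := by decide +kernel
theorem v356 : loop2 (fun i => Nat.beq (Z i) 0) 3 16 17088 = true := by decide +kernel
theorem v357 : loop2 (fun i => Nat.beq (Z i) 0) 3 16 17136 = true := by decide +kernel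
theorem v358 : loop2 (fun i => Nat.beq (Z i) 0) 3 16 17184 = true := by decide +kernel
theorem v359 : loop2 (fun i => Nat.beq (Z i) 0) 3 16 17232 = true := by decide +kernel
theorem v360 : loop2 (fun i => Nat.beq (Z i) 0) 3 16 17280 = true := by decide +kernel
theorem v361 : loop2 (fun i => Nat.beq (Z i) 0) 3 16 17328 = true := by decide +kernel
theorem v362 : loop2 (fun i => Nat.beq (Z i) 0) 3 16 17376 = true := by decide +kernel
theorem v363 : loop2 (fun i => Nat.beq (Z i) 0) 3 16 17424 = true := by decide +kernel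
theorem v364 : loop2 (fun i => Nat.beq (Z i) 0) 3 16 17472 = true := by decide +kernel
theorem v365 : loop2 (fun i => Nat.beq (Z i) 0) 3 16 17520 = true := by decide +kernel
theorem v366 : loop2 (fun i => Nat.beq (Z i) 0) 3 16 17568 = true := by decide +kernel
theorem v367 : loop2 (fun i => Nat.beq (Z i) 0) 3 16 17616 = true := by decide +kernel
theorem v368 : loop2 (fun i => Nat.beq (Z i) 0) 3 16 17664 = true := by decide +kernel
theorem v369 : loop2 (fun i => Nat.beq (Z i) 0) 3 16 17712 = true := by decide +kernel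
theorem v370 : loop2 (fun i => Nat.beq (Z i) 0) 3 16 17760 = true := by decide +kernel
theorem v371 : loop2 (fun i => Nat.beq (Z i) 0) 3 16 17808 = true := by decide +kernel
theorem v372 : loop2 (fun i => Nat.beq (Z i) 0) 3 16 17856 = true := by decide +kernel
theorem v373 : loop2 (fun i => Nat.beq (Z i) 0) 3 16 17904 = true := by decide +kernel
theorem v374 : loop2 (fun i => Nat.beq (Z i) 0) 3 16 17952 = true := by decide +kernel
theorem v375 : loop2 (fun i => Nat.beq (Z i) 0) 3 16 18000 = true := by decide +kernel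
theorem v376 : loop2 (fun i => Nat.beq (Z i) 0) 3 16 18048 = true := by decide +kernel
theorem v377 : loop2 (fun i => Nat.beq (Z i) 0) 3 16 18096 = true := by decide +kernel
theorem v378 : loop2 (fun i => Nat.beq (Z i) 0) 3 16 18144 = true := by decide +kernel
theorem v379 : loop2 (fun i => Nat.beq (Z i) 0) 3 16 18192 = true := by decide +kernel
theorem v380 : loop2 (fun i => Nat.beq (Z i) 0) 3 16 18240 = true := by decide +kernel
theorem v381 : loop2 (fun i => Nat.beq (Z i) 0) 3 16 18288 = true := by decide +kernel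
theorem v382 : loop2 (fun i => Nat.beq (Z i) 0) 3 16 18336 = true := by decide +kernel
theorem v383 : loop2 (fun i => Nat.beq (Z i) 0) 3 16 18384 = true := by decide +kernel
theorem v384 : loop2 (fun i => Nat.beq (Z i) 0) 3 16 18432 = true := by decide +kernel
theorem v385 : loop2 (fun i => Nat.beq (Z i) 0) 3 16 18480 = true := by decide +kernel
theorem v386 : loop2 (fun i => Nat.beq (Z i) 0) 3 16 18528 = true := by decide +kernel
theorem v387 : loop2 (fun i => Nat.beq (Z i) 0) 3 16 18576 = true := by decide +kernel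
theorem v388 : loop2 (fun i => Nat.beq (Z i) 0) 3 16 18624 = true := by decide +kernel
theorem v389 : loop2 (fun i => Nat.beq (Z i) 0) 3 16 18672 = true := by decide +kernel
theorem v390 : loop2 (fun i => Nat.beq (Z i) 0) 3 16 18720 = true := by decide +kernel
theorem v391 : loop2 (fun i => Nat.beq (Z i) 0) 3 16 18768 = true := by decide +kernel
theorem v392 : loop2 (fun i => Nat.beq (Z i) 0) 3 16 18816 = true := by decide +kernel
theorem v393 : loop2 (fun i => Nat.beq (Z i) 0) 3 16 18864 = true := by decide +kernel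
theorem v394 : loop2 (fun i => Nat.beq (Z i) 0) 3 16 18912 = true := by decide +kernel
theorem v395 : loop2 (fun i => Nat.beq (Z i) 0) 3 16 18960 = true := by decide +kernel
theorem v396 : loop2 (fun i => Nat.beq (Z i) 0) 3 16 19008 = true := by decide +kernel
theorem v397 : loop2 (fun i => Nat.beq (Z i) 0) 3 16 19056 = true := by decide +kernel
theorem v398 : loop2 (fun i => Nat.beq (Z i) 0) 3 16 19104 = true := by decide +kernel
theorem v399 : loop2 (fun i => Nat.beq (Z i) 0) 3 16 19152 = true := by decide +kernel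
theorem v400 : loop2 (fun i => Nat.beq (Z i) 0) 3 16 19200 = true := by decide +kernel
theorem v401 : loop2 (fun i => Nat.beq (Z i) 0) 3 16 19248 = true := by decide +kernel
theorem v402 : loop2 (fun i => Nat.beq (Z i) 0) 3 16 19296 = true := by decide +kernel
theorem v403 : loop2 (fun i => Nat.beq (Z i) 0) 3 16 19344 = true := by decide +kernel
theorem v404 : loop2 (fun i => Nat.beq (Z i) 0) 3 16 19392 = true := by decide +kernel
theorem v405 : loop2 (fun i => Nat.beq (Z i) 0) 3 16 19440 = true := by decide +kernel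
theorem v406 : loop2 (fun i => Nat.beq (Z i) 0) 3 16 19488 = true := by decide +kernel
theorem v407 : loop2 (fun i => Nat.beq (Z i) 0) 3 16 19536 = true := by decide +kernel
theorem v408 : loop2 (fun i => Nat.beq (Z i) 0) 3 16 19584 = true := by decide +kernel
theorem v409 : loop2 (fun i => Nat.beq (Z i) 0) 3 16 19632 = true := by decide +kernel
theorem v410 : loop2 (fun i => Nat.beq (Z i) 0) 3 16 19680 = true := by decide +kernel
theorem v411 : loop2 (fun i => Nat.beq (Z i) 0) 3 16 19728 = true := by decide +kernel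
theorem v412 : loop2 (fun i => Nat.beq (Z i) 0) 3 16 19776 = true := by decide +kernel
theorem v413 : loop2 (fun i => Nat.beq (Z i) 0) 3 16 19824 = true := by decide +kernel
theorem v414 : loop2 (fun i => Nat.beq (Z i) 0) 3 16 19872 = true := by decide +kernel
theorem v415 : loop2 (fun i => Nat.beq (Z i) 0) 3 16 19920 = true := by decide +kernel
theorem v416 : loop2 (fun i => Nat.beq (Z i) 0) 3 16 19968 = true := by decide +kernel
theorem v417 : loop2 (fun i => Nat.beq (Z i) 0) 3 16 20016 = true := by decide +kernel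
theorem v418 : loop2 (fun i => Nat.beq (Z i) 0) 3 16 20064 = true := by decide +kernel
theorem v419 : loop2 (fun i => Nat.beq (Z i) 0) 3 16 20112 = true := by decide +kernel
theorem v420 : loop2 (fun i => Nat.beq (Z i) 0) 3 16 20160 = true := by decide +kernel
theorem v421 : loop2 (fun i => Nat.beq (Z i) 0) 3 16 20208 = true := by decide +kernel
theorem v422 : loop2 (fun i => Nat.beq (Z i) 0) 3 16 20256 = true := by decide +kernel
theorem v423 : loop2 (fun i => Nat.beq (Z i) 0) 3 16 20304 = true := by decide +kernel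
theorem v424 : loop2 (fun i => Nat.beq (Z i) 0) 3 16 20352 = true := by decide +kernel
theorem v425 : loop2 (fun i => Nat.beq (Z i) 0) 3 16 20400 = true := by decide +kernel
theorem v426 : loop2 (fun i => Nat.beq (Z i) 0) 3 16 20448 = true := by decide +kernel
theorem v427 : loop2 (fun i => Nat.beq (Z i) 0) 3 16 20496 = true := by decide +kernel
theorem v428 : loop2 (fun i => Nat.beq (Z i) 0) 3 16 20544 = true := by decide +kernel
theorem v429 : loop2 (fun i => Nat.beq (Z i) 0) 3 16 20592 = true := by decide +kernel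
theorem v430 : loop2 (fun i => Nat.beq (Z i) 0) 3 16 20640 = true := by decide +kernel
theorem v431 : loop2 (fun i => Nat.beq (Z i) 0) 3 16 20688 = true := by decide +kernel
theorem v432 : loop2 (fun i => Nat.beq (Z i) 0) 3 16 20736 = true := by decide +kernel
theorem v433 : loop2 (fun i => Nat.beq (Z i) 0) 3 16 20784 = true := by decide +kernel
theorem v434 : loop2 (fun i => Nat.beq (Z i) 0) 3 16 20832 = true := by decide +kernel
theorem v435 : loop2 (fun i => Nat.beq (Z i) 0) 3 16 20880 = true := by decide +kernel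
theorem v436 : loop2 (fun i => Nat.beq (Z i) 0) 3 16 20928 = true := by decide +kernel
theorem v437 : loop2 (fun i => Nat.beq (Z i) 0) 3 16 20976 = true := by decide +kernel
theorem v438 : loop2 (fun i => Nat.beq (Z i) 0) 3 16 21024 = true := by decide +kernel
theorem v439 : loop2 (fun i => Nat.beq (Z i) 0) 3 16 21072 = true := by decide +kernel
theorem v440 : loop2 (fun i => Nat.beq (Z i) 0) 3 16 21120 = true := by decide +kernel
theorem v441 : loop2 (fun i => Nat.beq (Z i) 0) 3 16 21168 = true := by decide +kernel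
theorem v442 : loop2 (fun i => Nat.beq (Z i) 0) 3 16 21216 = true := by decide +kernel
theorem v443 : loop2 (fun i => Nat.beq (Z i) 0) 3 16 21264 = true := by decide +kernel
theorem v444 : loop2 (fun i => Nat.beq (Z i) 0) 3 16 21312 = true := by decide +kernel
theorem v445 : loop2 (fun i => Nat.beq (Z i) 0) 3 16 21360 = true := by decide +kernel
theorem v446 : loop2 (fun i => Nat.beq (Z i) 0) 3 16 21408 = true := by decide +kernel
theorem v447 : loop2 (fun i => Nat.beq (Z i) 0) 3 16 21456 = true := by decide +kernel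
theorem v448 : loop2 (fun i => Nat.beq (Z i) 0) 3 16 21504 = true := by decide +kernel
theorem v449 : loop2 (fun i => Nat.beq (Z i) 0) 3 16 21552 = true := by decide +kernel
theorem v450 : loop2 (fun i => Nat.beq (Z i) 0) 3 16 21600 = true := by decide +kernel
theorem v451 : loop2 (fun i => Nat.beq (Z i) 0) 3 16 21648 = true := by decide +kernel
theorem v452 : loop2 (fun i => Nat.beq (Z i) 0) 3 16 21696 = true := by decide +kernel
theorem v453 : loop2 (fun i => Nat.beq (Z i) 0) 3 16 21744 = true := by decide +kernel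
theorem v454 : loop2 (fun i => Nat.beq (Z i) 0) 3 16 21792 = true := by decide +kernel
theorem v455 : loop2 (fun i => Nat.beq (Z i) 0) 3 16 21840 = true := by decide +kernel
theorem v456 : loop2 (fun i => Nat.beq (Z i) 0) 3 16 21888 = true := by decide +kernel
theorem v457 : loop2 (fun i => Nat.beq (Z i) 0) 3 16 21936 = true := by decide +kernel
theorem v458 : loop2 (fun i => Nat.beq (Z i) 0) 3 16 21984 = true := by decide +kernel
theorem v459 : loop2 (fun i => Nat.beq (Z i) 0) 3 16 22032 = true := by decide +kernel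
theorem v460 : loop2 (fun i => Nat.beq (Z i) 0) 3 16 22080 = true := by decide +kernel
theorem v461 : loop2 (fun i => Nat.beq (Z i) 0) 3 16 22128 = true := by decide +kernel
theorem v462 : loop2 (fun i => Nat.beq (Z i) 0) 3 16 22176 = true := by decide +kernel
theorem v463 : loop2 (fun i => Nat.beq (Z i) 0) 3 16 22224 = true := by decide +kernel
theorem v464 : loop2 (fun i => Nat.beq (Z i) 0) 3 16 22272 = true := by decide +kernel
theorem v465 : loop2 (fun i => Nat.beq (Z i) 0) 3 16 22320 = true := by decide +kernel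
theorem v466 : loop2 (fun i => Nat.beq (Z i) 0) 3 16 22368 = true := by decide +kernel
theorem v467 : loop2 (fun i => Nat.beq (Z i) 0) 3 16 22416 = true := by decide +kernel
theorem v468 : loop2 (fun i => Nat.beq (Z i) 0) 3 16 22464 = true := by decide +kernel
theorem v469 : loop2 (fun i => Nat.beq (Z i) 0) 3 16 22512 = true := by decide +kernel
theorem v470 : loop2 (fun i => Nat.beq (Z i) 0) 3 16 22560 = true := by decide +kernel
theorem v471 : loop2 (fun i => Nat.beq (Z i) 0) 3 16 22608 = true := by decide +kernel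
theorem v472 : loop2 (fun i => Nat.beq (Z i) 0) 3 16 22656 = true := by decide +kernel
theorem v473 : loop2 (fun i => Nat.beq (Z i) 0) 3 16 22704 = true := by decide +kernel
theorem v474 : loop2 (fun i => Nat.beq (Z i) 0) 3 16 22752 = true := by decide +kernel
theorem v475 : loop2 (fun i => Nat.beq (Z i) 0) 3 16 22800 = true := by decide +kernel
theorem v476 : loop2 (fun i => Nat.beq (Z i) 0) 3 16 22848 = true := by decide +kernel
theorem z2 : RngF (fun _ z => z = 0) Z 15264 22896 := (RngF.app (RngF.app (RngF.app (RngF.app (RngF.app (RngF.app (RngF.app (rngZ_of_loop 15312 v318 rfl) (rngZ_of_loop 15360 v319 rfl)) (RngF.app (rngZ_of_loop 15408 v320 rfl) (rngZ_of_loop 15456 v321 rfl))) (RngF.app (RngF.app (rngZ_of_loop 15504 v322 rfl) (rngZ_of_loop 15552 v323 rfl)) (RngF.app (rngZ_of_loop 15600 v324 rfl) (RngF.app (rngZ_of_loop 15648 v325 rfl) (rngZ_of_loop 15696 v326 rfl))))) (RngF.app (RngF.app (RngF.app (rngZ_of_loop 15744 v327 rfl) (rngZ_of_loop 15792 v328 rfl)) (RngF.app (rngZ_of_loop 15840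 v329 rfl) (RngF.app (rngZ_of_loop 15888 v330 rfl) (rngZ_of_loop 15936 v331 rfl)))) (RngF.app (RngF.app (rngZ_of_loop 15984 v332 rfl) (rngZ_of_loop 16032 v333 rfl)) (RngF.app (rngZ_of_loop 16080 v334 rfl) (RngF.app (rngZ_of_loop 16128 v335 rfl) (rngZ_of_loop 16176 v336 rfl)))))) (RngF.app (RngF.app (RngF.app (RngF.app (rngZ_of_loop 16224 v337 rfl) (rngZ_of_loop 16272 v338 rfl)) (RngF.app (rngZ_of_loop 16320 v339 rfl) (RngF.app (rngZ_of_loop 16368 v340 rfl) (rngZ_of_loop 16416 v341 rfl)))) (RngF.app (RngF.app (rngZ_of_loop 16464 v342 rfl) (rngZ_of_loop 16512 v343 rfl)) (RngF.app (rngZ_of_loop 16560 v344 rfl) (RngF.app (rngZ_of_loop 16608 v345 rfl) (rngZ_of_loop 16656 v346 rfl))))) (RngF.app (RngF.app (RngF.app (rngZ_of_loop 16704 v347 rfl) (rngZ_of_loop 16752 v348 rfl)) (RngF.app (rngZ_of_loop 16800 v349 rfl) (RngF.app (rngZ_of_loop 16848 v350 rfl) (rngZ_of_loop 16896 v351 rfl)))) (RngF.app (RngF.app (rngZ_of_loop 16944 v352 rfl) (rngZ_of_loop 16992 v353 rfl)) (RngF.app (rngZ_of_loop 17040 v354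 rfl) (RngF.app (rngZ_of_loop 17088 v355 rfl) (rngZ_of_loop 17136 v356 rfl))))))) (RngF.app (RngF.app (RngF.app (RngF.app (RngF.app (rngZ_of_loop 17184 v357 rfl) (rngZ_of_loop 17232 v358 rfl)) (RngF.app (rngZ_of_loop 17280 v359 rfl) (RngF.app (rngZ_of_loop 17328 v360 rfl) (rngZ_of_loop 17376 v361 rfl)))) (RngF.app (RngF.app (rngZ_of_loop 17424 v362 rfl) (rngZ_of_loop 17472 v363 rfl)) (RngF.app (rngZ_of_loop 17520 v364 rfl) (RngF.app (rngZ_of_loop 17568 v365 rfl) (rngZ_of_loop 17616 v366 rfl))))) (RngF.app (RngF.app (RngF.app (rngZ_of_loop 17664 v367 rfl) (rngZ_of_loop 17712 v368 rfl)) (RngF.app (rngZ_of_loop 17760 v369 rfl) (RngF.app (rngZ_of_loop 17808 v370 rfl) (rngZ_of_loop 17856 v371 rfl)))) (RngF.app (RngF.app (rngZ_of_loop 17904 v372 rfl) (rngZ_of_loop 17952 v373 rfl)) (RngF.app (rngZ_of_loop 18000 v374 rfl) (RngF.app (rngZ_of_loop 18048 v375 rfl) (rngZ_of_loop 18096 v376 rfl)))))) (RngF.app (RngF.app (RngF.app (RngF.app (rngZ_of_loop 18144 v377 rfl) (rngZ_of_loop 18192 v378 rfl)) (RngF.app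 (rngZ_of_loop 18240 v379 rfl) (RngF.app (rngZ_of_loop 18288 v380 rfl) (rngZ_of_loop 18336 v381 rfl)))) (RngF.app (RngF.app (rngZ_of_loop 18384 v382 rfl) (rngZ_of_loop 18432 v383 rfl)) (RngF.app (rngZ_of_loop 18480 v384 rfl) (RngF.app (rngZ_of_loop 18528 v385 rfl) (rngZ_of_loop 18576 v386 rfl))))) (RngF.app (RngF.app (RngF.app (rngZ_of_loop 18624 v387 rfl) (rngZ_of_loop 18672 v388 rfl)) (RngF.app (rngZ_of_loop 18720 v389 rfl) (RngF.app (rngZ_of_loop 18768 v390 rfl) (rngZ_of_loop 18816 v391 rfl)))) (RngF.app (RngF.app (rngZ_of_loop 18864 v392 rfl) (rngZ_of_loop 18912 v393 rfl)) (RngF.app (rngZ_of_loop 18960 v394 rfl) (RngF.app (rngZ_of_loop 19008 v395 rfl) (rngZ_of_loop 19056 v396 rfl)))))))) (RngF.app (RngF.app (RngF.app (RngF.app (RngF.app (RngF.app (rngZ_of_loop 19104 v397 rfl) (rngZ_of_loop 19152 v398 rfl)) (RngF.app (rngZ_of_loop 19200 v399 rfl) (RngF.app (rngZ_of_loop 19248 v400 rfl) (rngZ_of_loop 19296 v401 rfl)))) (RngF.app (RngF.app (rngZ_of_loop 19344 v402 rfl) (rngZ_of_loop 19392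 v403 rfl)) (RngF.app (rngZ_of_loop 19440 v404 rfl) (RngF.app (rngZ_of_loop 19488 v405 rfl) (rngZ_of_loop 19536 v406 rfl))))) (RngF.app (RngF.app (RngF.app (rngZ_of_loop 19584 v407 rfl) (rngZ_of_loop 19632 v408 rfl)) (RngF.app (rngZ_of_loop 19680 v409 rfl) (RngF.app (rngZ_of_loop 19728 v410 rfl) (rngZ_of_loop 19776 v411 rfl)))) (RngF.app (RngF.app (rngZ_of_loop 19824 v412 rfl) (rngZ_of_loop 19872 v413 rfl)) (RngF.app (rngZ_of_loop 19920 v414 rfl) (RngF.app (rngZ_of_loop 19968 v415 rfl) (rngZ_of_loop 20016 v416 rfl)))))) (RngF.app (RngF.app (RngF.app (RngF.app (rngZ_of_loop 20064 v417 rfl) (rngZ_of_loop 20112 v418 rfl)) (RngF.app (rngZ_of_loop 20160 v419 rfl) (RngF.app (rngZ_of_loop 20208 v420 rfl) (rngZ_of_loop 20256 v421 rfl)))) (RngF.app (RngF.app (rngZ_of_loop 20304 v422 rfl) (rngZ_of_loop 20352 v423 rfl)) (RngF.app (rngZ_of_loop 20400 v424 rfl) (RngF.app (rngZ_of_loop 20448 v425 rfl) (rngZ_of_loop 20496 v426 rfl))))) (RngF.app (RngF.app (RngF.app (rngZ_of_loop 20544 v427 rfl) (rngZ_of_loop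 20592 v428 rfl)) (RngF.app (rngZ_of_loop 20640 v429 rfl) (RngF.app (rngZ_of_loop 20688 v430 rfl) (rngZ_of_loop 20736 v431 rfl)))) (RngF.app (RngF.app (rngZ_of_loop 20784 v432 rfl) (rngZ_of_loop 20832 v433 rfl)) (RngF.app (rngZ_of_loop 20880 v434 rfl) (RngF.app (rngZ_of_loop 20928 v435 rfl) (rngZ_of_loop 20976 v436 rfl))))))) (RngF.app (RngF.app (RngF.app (RngF.app (RngF.app (rngZ_of_loop 21024 v437 rfl) (rngZ_of_loop 21072 v438 rfl)) (RngF.app (rngZ_of_loop 21120 v439 rfl) (RngF.app (rngZ_of_loop 21168 v440 rfl) (rngZ_of_loop 21216 v441 rfl)))) (RngF.app (RngF.app (rngZ_of_loop 21264 v442 rfl) (rngZ_of_loop 21312 v443 rfl)) (RngF.app (rngZ_of_loop 21360 v444 rfl) (RngF.app (rngZ_of_loop 21408 v445 rfl) (rngZ_of_loop 21456 v446 rfl))))) (RngF.app (RngF.app (RngF.app (rngZ_of_loop 21504 v447 rfl) (rngZ_of_loop 21552 v448 rfl)) (RngF.app (rngZ_of_loop 21600 v449 rfl) (RngF.app (rngZ_of_loop 21648 v450 rfl) (rngZ_of_loop 21696 v451 rfl)))) (RngF.app (RngF.app (rngZ_of_loop 21744 v452 rfl) (rngZ_of_loop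 21792 v453 rfl)) (RngF.app (rngZ_of_loop 21840 v454 rfl) (RngF.app (rngZ_of_loop 21888 v455 rfl) (rngZ_of_loop 21936 v456 rfl)))))) (RngF.app (RngF.app (RngF.app (RngF.app (rngZ_of_loop 21984 v457 rfl) (rngZ_of_loop 22032 v458 rfl)) (RngF.app (rngZ_of_loop 22080 v459 rfl) (RngF.app (rngZ_of_loop 22128 v460 rfl) (rngZ_of_loop 22176 v461 rfl)))) (RngF.app (RngF.app (rngZ_of_loop 22224 v462 rfl) (rngZ_of_loop 22272 v463 rfl)) (RngF.app (rngZ_of_loop 22320 v464 rfl) (RngF.app (rngZ_of_loop 22368 v465 rfl) (rngZ_of_loop 22416 v466 rfl))))) (RngF.app (RngF.app (RngF.app (rngZ_of_loop 22464 v467 rfl) (rngZ_of_loop 22512 v468 rfl)) (RngF.app (rngZ_of_loop 22560 v469 rfl) (RngF.app (rngZ_of_loop 22608 v470 rfl) (rngZ_of_loop 22656 v471 rfl)))) (RngF.app (RngF.app (rngZ_of_loop 22704 v472 rfl) (rngZ_of_loop 22752 v473 rfl)) (RngF.app (rngZ_of_loop 22800 v474 rfl) (RngF.app (rngZ_of_loop 22848 v475 rfl) (rngZ_of_loop 22896 v476 rfl)))))))))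

end H34.Suz1
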