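import Cfsg.Agent.Lib.H34.Suz1.U0
import Cfsg.Agent.Lib.H34.Suz1.U1
import Cfsg.Agent.Lib.H34.Suz1.U2
import Cfsg.Agent.Lib.H34.Suz1.V0
import Cfsg.Agent.Lib.H34.Suz1.V1
import Cfsg.Agent.Lib.H34.Suz1.V2
import Cfsg.Agent.Lib.H34.T2Main
import Cfsg.Prelude.Def_Spor_Suz

set_option autoImplicit false
set_option maxRecDepth 100000
set_option Elab.async false

noncomputable section

namespace H34.Suz1

open H34.T2 H34.TC Cfsg.Spor

noncomputable def gens : List Cfsg.Spor.Suz.Gen := [.a, .b, .c, .d, .e, .f, .g]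

theorem hg : ∀ x, x ∈ gens := by intro x; cases x <;> decide

theorem hn : ∀ x, x ∈ coxNodes Cfsg.Spor.Suz.edges := by intro x; cases x <;> decide

theorem hnd : gens.Nodup := by decide

theorem hbase : baseChk gens Cfsg.Spor.Suz.edges Cfsg.Spor.Suz.extra base = true := by decide +kernel

theorem hrel : relChk gens Cfsg.Spor.Suz.edges Cfsg.Spor.Suz.extra base = true := by decide +kernel

noncomputable def K (c x : Nat) : Nat := (Nat.land (Nat.shiftRight c (Nat.mul (Nat.land x (nat_lit 4095)) (nat_lit 44))) (nat_lit 17592186044415))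

theorem r0 : RngF (fun i e => ∃ J, chkS (enF enL) E D W0 DL0 subs 26701 0 i e J = true) F0 0 28672 := (RngF.brK (K := K) (f0 := (brF 4096 (fun _ => C0_0) (brF 8192 (fun _ => C0_1) (fun _ => C0_2)))) (f1 := (brF 20480 (brF 16384 (fun _ => C0_3) (fun _ => C0_4)) (brF 24576 (fun _ => C0_5) (fun _ => C0_6)))) (RngF.brK (K := K) (f0 := (fun _ => C0_0)) (f1 := (brF 8192 (fun _ => C0_1) (fun _ => C0_2))) r0_0 (RngF.brK (K := K) (f0 := (fun _ => C0_1)) (f1 := (fun _ => C0_2)) r0_1 r0_2)) (RngF.brK (K := K) (f0 := (brF 16384 (fun _ => C0_3) (fun _ => C0_4))) (f1 := (brF 24576 (fun _ => C0_5) (fun _ => C0_6))) (RngF.brK (K := K) (f0 := (fun _ => C0_3)) (f1 := (fun _ => C0_4)) r0_3 r0_4) (RngF.brK (K := K) (f0 := (fun _ => C0_5)) (f1 := (fun _ => C0_6)) r0_5 r0_6)))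
theorem r1 : RngF (fun i e => ∃ J, chkS (enF enL) E D W1 DL1 subs 26701 1 i e J = true) F1 0 28672 := (RngF.brK (K := K) (f0 := (brF 4096 (fun _ => C1_0) (brF 8192 (fun _ => C1_1) (fun _ => C1_2)))) (f1 := (brF 20480 (brF 16384 (fun _ => C1_3) (fun _ => C1_4)) (brF 24576 (fun _ => C1_5) (fun _ => C1_6)))) (RngF.brK (K := K) (f0 := (fun _ => C1_0)) (f1 := (brF 8192 (fun _ => C1_1) (fun _ => C1_2))) r1_0 (RngF.brK (K := K) (f0 := (fun _ => C1_1)) (f1 := (fun _ => C1_2)) r1_1 r1_2)) (RngF.brK (K := K) (f0 := (brF 16384 (fun _ => C1_3) (fun _ => C1_4))) (f1 := (brF 24576 (fun _ => C1_5) (fun _ => C1_6))) (RngF.brK (K := K) (f0 := (fun _ => C1_3)) (f1 := (fun _ => C1_4)) r1_3 r1_4) (RngF.brK (K := K) (f0 := (fun _ => C1_5)) (f1 := (fun _ => C1_6)) r1_5 r1_6)))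
theorem r2 : RngF (fun i e => ∃ J, chkS (enF enL) E D W2 DL2 subs 26701 2 i e J = true) F2 0 28672 := (RngF.brK (K := K) (f0 := (brF 4096 (fun _ => C2_0) (brF 8192 (fun _ => C2_1) (fun _ => C2_2)))) (f1 := (brF 20480 (brF 16384 (fun _ => C2_3) (fun _ => C2_4)) (brF 24576 (fun _ => C2_5) (fun _ => C2_6)))) (RngF.brK (K := K) (f0 := (fun _ => C2_0)) (f1 := (brF 8192 (fun _ => C2_1) (fun _ => C2_2))) r2_0 (RngF.brK (K := K) (f0 := (fun _ => C2_1)) (f1 := (fun _ => C2_2)) r2_1 r2_2)) (RngF.brK (K := K) (f0 := (brF 16384 (fun _ => C2_3) (fun _ => C2_4))) (f1 := (brF 24576 (fun _ => C2_5) (fun _ => C2_6))) (RngF.brK (K := K) (f0 := (fun _ => C2_3)) (f1 := (fun _ => C2_4)) r2_3 r2_4) (RngF.brK (K := K) (f0 := (fun _ => C2_5)) (f1 := (fun _ => C2_6)) r2_5 r2_6)))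
theorem r3 : RngF (fun i e => ∃ J, chkS (enF enL) E D W3 DL3 subs 26701 3 i e J = true) F3 0 28672 := (RngF.brK (K := K) (f0 := (brF 4096 (fun _ => C3_0) (brF 8192 (fun _ => C3_1) (fun _ => C3_2)))) (f1 := (brF 20480 (brF 16384 (fun _ => C3_3) (fun _ => C3_4)) (brF 24576 (fun _ => C3_5) (fun _ => C3_6)))) (RngF.brK (K := K) (f0 := (fun _ => C3_0)) (f1 := (brF 8192 (fun _ => C3_1) (fun _ => C3_2))) r3_0 (RngF.brK (K := K) (f0 := (fun _ => C3_1)) (f1 := (fun _ => C3_2)) r3_1 r3_2)) (RngF.brK (K := K) (f0 := (brF 16384 (fun _ => C3_3) (fun _ => C3_4))) (f1 := (brF 24576 (fun _ => C3_5) (fun _ => C3_6))) (RngF.brK (K := K) (f0 := (fun _ => C3_3)) (f1 := (fun _ => C3_4)) r3_3 r3_4) (RngF.brK (K := K) (f0 := (fun _ => C3_5)) (f1 := (fun _ => C3_6)) r3_5 r3_6)))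
theorem r4 : RngF (fun i e => ∃ J, chkS (enF enL) E D W4 DL4 subs 26701 4 i e J = true) F4 0 28672 := (RngF.brK (K := K) (f0 := (brF 4096 (fun _ => C4_0) (brF 8192 (fun _ => C4_1) (fun _ => C4_2)))) (f1 := (brF 20480 (brF 16384 (fun _ => C4_3) (fun _ => C4_4)) (brF 24576 (fun _ => C4_5) (fun _ => C4_6)))) (RngF.brK (K := K) (f0 := (fun _ => C4_0)) (f1 := (brF 8192 (fun _ => C4_1) (fun _ => C4_2))) r4_0 (RngF.brK (K := K) (f0 := (fun _ => C4_1)) (f1 := (fun _ => C4_2)) r4_1 r4_2)) (RngF.brK (K := K) (f0 := (brF 16384 (fun _ => C4_3) (fun _ => C4_4))) (f1 := (brF 24576 (fun _ => C4_5) (fun _ => C4_6))) (RngF.brK (K := K) (f0 := (fun _ => C4_3)) (f1 := (fun _ => C4_4)) r4_3 r4_4) (RngF.brK (K := K) (f0 := (fun _ => C4_5)) (f1 := (fun _ => C4_6)) r4_5 r4_6)))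
theorem r5 : RngF (fun i e => ∃ J, chkS (enF enL) E D W5 DL5 subs 26701 5 i e J = true) F5 0 28672 := (RngF.brK (K := K) (f0 := (brF 4096 (fun _ => C5_0) (brF 8192 (fun _ => C5_1) (fun _ => C5_2)))) (f1 := (brF 20480 (brF 16384 (fun _ => C5_3) (fun _ => C5_4)) (brF 24576 (fun _ => C5_5) (fun _ => C5_6)))) (RngF.brK (K := K) (f0 := (fun _ => C5_0)) (f1 := (brF 8192 (fun _ => C5_1) (fun _ => C5_2))) r5_0 (RngF.brK (K := K) (f0 := (fun _ => C5_1)) (f1 := (fun _ => C5_2)) r5_1 r5_2)) (RngF.brK (K := K) (f0 := (brF 16384 (fun _ => C5_3) (fun _ => C5_4))) (f1 := (brF 24576 (fun _ => C5_5) (fun _ => C5_6))) (RngF.brK (K := K) (f0 := (fun _ => C5_3)) (f1 := (fun _ => C5_4)) r5_3 r5_4) (RngF.brK (K := K) (f0 := (fun _ => C5_5)) (f1 := (fun _ => C5_6)) r5_5 r5_6)))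
theorem r6 : RngF (fun i e => ∃ J, chkS (enF enL) E D W6 DL6 subs 26701 6 i e J = true) F6 0 28672 := (RngF.brK (K := K) (f0 := (brF 4096 (fun _ => C6_0) (brF 8192 (fun _ => C6_1) (fun _ => C6_2)))) (f1 := (brF 20480 (brF 16384 (fun _ => C6_3) (fun _ => C6_4)) (brF 24576 (fun _ => C6_5) (fun _ => C6_6)))) (RngF.brK (K := K) (f0 := (fun _ => C6_0)) (f1 := (brF 8192 (fun _ => C6_1) (fun _ => C6_2))) r6_0 (RngF.brK (K := K) (f0 := (fun _ => C6_1)) (f1 := (fun _ => C6_2)) r6_1 r6_2)) (RngF.brK (K := K) (f0 := (brF 16384 (fun _ => C6_3) (fun _ => C6_4))) (f1 := (brF 24576 (fun _ => C6_5) (fun _ => C6_6))) (RngF.brK (K := K) (f0 := (fun _ => C6_3)) (f1 := (fun _ => C6_4)) r6_3 r6_4) (RngF.brK (K := K) (f0 := (fun _ => C6_5)) (f1 := (fun _ => C6_6)) r6_5 r6_6)))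
theorem rE : RngF (fun i e => ∃ J, chkQ (enF enL) E WEL subE 26701 i e J = true) E 0 28672 := (RngF.brK (K := K) (f0 := (brF 4096 (fun _ => CE_0) (brF 8192 (fun _ => CE_1) (fun _ => CE_2)))) (f1 := (brF 20480 (brF 16384 (fun _ => CE_3) (fun _ => CE_4)) (brF 24576 (fun _ => CE_5) (fun _ => CE_6)))) (RngF.brK (K := K) (f0 := (fun _ => CE_0)) (f1 := (brF 8192 (fun _ => CE_1) (fun _ => CE_2))) rE_0 (RngF.brK (K := K) (f0 := (fun _ => CE_1)) (f1 := (fun _ => CE_2)) rE_1 rE_2)) (RngF.brK (K := K) (f0 := (brF 16384 (fun _ => CE_3) (fun _ => CE_4))) (f1 := (brF 24576 (fun _ => CE_5) (fun _ => CE_6))) (RngF.brK (K := K) (f0 := (fun _ => CE_3)) (f1 := (fun _ => CE_4)) rE_3 rE_4) (RngF.brK (K := K) (f0 := (fun _ => CE_5)) (f1 := (fun _ => CE_6)) rE_5 rE_6)))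

theorem hslot : ∀ g, g < gens.length → ∃ wl dl, wl = (WA.getD g []).map (List.map (enF enL)) ∧ dl = [id g].map (enF enL) ∧
    RngF (fun i e => ∃ J, chkS (enF enL) E D wl dl subs 26701 g i e J = true) (enF enL g) 0 (26701 + 1) := by
  intro g hg
  change g < 7 at hg
  interval_cases g
  · exact ⟨W0, DL0, hW0, rfl, r0.mono (by norm_num)⟩
  · exact ⟨W1, DL1, hW1, rfl, r1.mono (by norm_num)⟩
  · exact ⟨W2, DL2, hW2, rfl, r2.mono (by norm_num)⟩
  · exact ⟨W3, DL3, hW3, rfl, r3.mono (by norm_num)⟩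
  · exact ⟨W4, DL4, hW4, rfl, r4.mono (by norm_num)⟩
  · exact ⟨W5, DL5, hW5, rfl, r5.mono (by norm_num)⟩
  · exact ⟨W6, DL6, hW6, rfl, r6.mono (by norm_num)⟩

theorem facts : Facts (enF nxL) id 22880 gens.length 19 defs eqs bs hl (0 :: bs) :=
  facts_of_rng Z hZ (RngF.app z0 (RngF.app z1 z2)) (by norm_num)

theorem upper (H : Subgroup (CoxPresented Cfsg.Spor.Suz.Gen Cfsg.Spor.Suz.edges Cfsg.Spor.Suz.extra))
    (hH : H = Subgroup.closure {x | ∃ w ∈ hw, x = wp (ell gens (gn Cfsg.Spor.Suz.edges Cfsg.Spor.Suz.extra)) w}) :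
    H.FiniteIndex ∧ H.index ≤ 22880 :=
  H34.T2.cox_upper hg hn H hw hH base hbase 26701 22880 15 enL E D WA HA WE HE subs subE WEL (by decide) (by norm_num) (by norm_num) (by norm_num) rfl
    (by decide +kernel) (by decide +kernel) (by decide +kernel) (by decide +kernel) (by decide +kernel) (by decide +kernel) (by decide +kernel) hWEL hslot (rE.mono (by norm_num)) (nbeq cN)

theorem main (H : Subgroup (CoxPresented Cfsg.Spor.Suz.Gen Cfsg.Spor.Suz.edges Cfsg.Spor.Suz.extra))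
    (hH : H = Subgroup.closure {x | ∃ w ∈ hw, x = wp (ell gens (gn Cfsg.Spor.Suz.edges Cfsg.Spor.Suz.extra)) w}) :
    H.index = 22880 ∧ ∃ (φ : CoxPresented Cfsg.Spor.Suz.Gen Cfsg.Spor.Suz.edges Cfsg.Spor.Suz.extra →* Equiv.Perm (Fin 22880))
      (e : CoxPresented Cfsg.Spor.Suz.Gen Cfsg.Spor.Suz.edges Cfsg.Spor.Suz.extra ⧸ H ≃ Fin 22880),
      IsPermT (enF nxL) 22880 19 ∧
      (∀ g < gens.length, φ (ell gens (gn Cfsg.Spor.Suz.edges Cfsg.Spor.Suz.extra) g) = permT (enF nxL) 22880 g) ∧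
      (∀ (g : CoxPresented Cfsg.Spor.Suz.Gen Cfsg.Spor.Suz.edges Cfsg.Spor.Suz.extra) (q : CoxPresented Cfsg.Spor.Suz.Gen Cfsg.Spor.Suz.edges Cfsg.Spor.Suz.extra ⧸ H), e (g • q) = φ g (e q)) ∧
      e ((1 : CoxPresented Cfsg.Spor.Suz.Gen Cfsg.Spor.Suz.edges Cfsg.Spor.Suz.extra) : CoxPresented Cfsg.Spor.Suz.Gen Cfsg.Spor.Suz.edges Cfsg.Spor.Suz.extra ⧸ H) = ⟨0, by norm_num⟩ ∧
      (∀ i : Fin 22880, ∃ g, φ g ⟨0, by norm_num⟩ = i) ∧
      ∀ (lo hi : Nat) (hlo : lo < 22880), hi ≤ 22880 → blkOK bs lo hi 22880 = true →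
        (MulAction.orbit H (e.symm ⟨lo, hlo⟩)).ncard = hi - lo ∧
        ∀ q, q ∈ MulAction.orbit H (e.symm ⟨lo, hlo⟩) ↔ (lo ≤ (e q : Nat) ∧ (e q : Nat) < hi) :=
  H34.T2.cox_exact hg hnd H hw hH base hrel 22880 (by norm_num) (upper H hH) nxL 19 defs exps eqs bs hl facts
    (by decide +kernel) (by decide +kernel) (by decide +kernel) (by decide +kernel) (by decide +kernel)

end H34.Suz1
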